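import Cfsg.Agent.Fi24Mult.OffsetCert
import Cfsg.Agent.Fi24Mult.EdgeData
import Cfsg.Agent.Fi24Mult.NodeData
import Cfsg.Agent.CosetEnum.Fi24H.Rotations

/-!
The offset certificate over the letters of `Fi₂₄` without its last relator: the third power of the
relator and the product with its conjugate both lie in the trivial offsets.
-/

set_option autoImplicit false
set_option maxRecDepth 100000

namespace CfsgLib.Fi24Mult

open CfsgLib.CosetEnum

noncomputable section

/-- The position of the last relator among the relators. -/
def spiderPos : ℕ := 68

/-- The value of a rotated relator. -/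
def relVal (r : ℕ) : ℤ × ℤ :=
  (fun s : ℕ × ℕ => bif Nat.beq s.1 spiderPos then tw (Nat.beq (s.2 % 2) 1) (1, 0) else (0, 0))
    (Fi24H.rotSrc.getD r (0, 0))

/-- The certificate. -/
def cert : Cert where
  k := 12
  m := nNode
  node := nodeT
  edge := edgeT
  look := lookT
  sub := [0, 1, 2, 3, 4, 5, 6, 7, 8, 9, 11]
  wd := Fi24H.wd
  nR := 274
  val := relVal

theorem nodes_ok : allR cert.nodeOK 14 0 = true := by decide +kernel

theorem node_zero : cert.nOdd 0 = false := by decide +kernel

theorem edges_ok : allR (fun L => cert.edgeOK L nEdge) 16 0 = true := by decide +kernel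

theorem close_cube : cert.closeOK nEdge 118 16005 (3, 0) = true := by decide +kernel

theorem close_pair : cert.closeOK nEdge 38 15955 (-1, -1) = true := by decide +kernel

/-- In every such group the two elements are inverse and of order dividing three. -/
theorem offsets_spec {Q : Type*} [Group Q] (S : Setting cert Q) : S.za ^ 3 = 1 ∧ S.za * S.zb = 1 := by
  have hn : ∀ a, a < cert.m → cert.nodeOK a = true := fun a ha =>
    allR_spec 14 0 nodes_ok a (Nat.zero_le _) (by
      have : cert.m = 16021 := rfl
      omega)
  have hE := S.edges_hold hn node_zero fun L hL =>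
    allR_spec 16 0 edges_ok L (Nat.zero_le _) (by
      have : nEdge = 43593 := rfl
      omega)
  have h1 := S.close_eq hn node_zero hE close_cube
  have h2 := S.close_eq hn node_zero hE close_pair
  constructor
  · simpa [Setting.ζ] using h1
  · have h3 := S.ζ_neg (-1, -1)
    rw [h2, inv_one] at h3
    simpa [Setting.ζ] using h3

end

end CfsgLib.Fi24Mult
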