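import Mathlib.Algebra.Group.MinimalAxioms
import Mathlib.Algebra.Group.Units.Basic
import Mathlib.Algebra.Group.Subgroup.Basic
import Mathlib.Algebra.Ring.Int.Units
import Mathlib.Tactic.Group

/-!
The wreath product of a group with the group of order two, as triples.
-/

set_option autoImplicit false

namespace CfsgLib.Fi24Mult

/-- Two coordinates and a flag saying that they are exchanged. -/
@[ext] structure Wr (Γ : Type*) where
  /-- The first coordinate. -/
  p : Γ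
  /-- The second coordinate. -/
  q : Γ
  /-- Whether the coordinates are exchanged. -/
  o : Bool

namespace Wr

variable {Γ Δ : Type*} [Group Γ] [Group Δ]

instance : Mul (Wr Γ) :=
  ⟨fun a b => bif a.o then ⟨a.p * b.q, a.q * b.p, !b.o⟩ else ⟨a.p * b.p, a.q * b.q, b.o⟩⟩

instance : One (Wr Γ) := ⟨⟨1, 1, false⟩⟩

instance : Inv (Wr Γ) := ⟨fun a => bif a.o then ⟨a.q⁻¹, a.p⁻¹, true⟩ else ⟨a.p⁻¹, a.q⁻¹, false⟩⟩

theorem mul_false (p q : Γ) (b : Wr Γ) : (⟨p, q, false⟩ : Wr Γ) * b = ⟨p * b.p, q * b.q, b.o⟩ := rfl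

theorem mul_true (p q : Γ) (b : Wr Γ) : (⟨p, q, true⟩ : Wr Γ) * b = ⟨p * b.q, q * b.p, !b.o⟩ := rfl

theorem one_def : (1 : Wr Γ) = ⟨1, 1, false⟩ := rfl

theorem inv_false (p q : Γ) : (⟨p, q, false⟩ : Wr Γ)⁻¹ = ⟨p⁻¹, q⁻¹, false⟩ := rfl

theorem inv_true (p q : Γ) : (⟨p, q, true⟩ : Wr Γ)⁻¹ = ⟨q⁻¹, p⁻¹, true⟩ := rfl

instance : Group (Wr Γ) :=
  Group.ofLeftAxioms
    (fun a b c => by
      obtain ⟨p, q, _ | _⟩ := a <;> obtain ⟨p', q', _ | _⟩ := b <;>
        simp [mul_false, mul_true, mul_assoc])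
    (fun a => by simp [one_def, mul_false])
    (fun a => by
      obtain ⟨p, q, _ | _⟩ := a <;> simp [inv_false, inv_true, mul_false, mul_true, one_def])

theorem mul_o (a b : Wr Γ) : (a * b).o = Bool.xor a.o b.o := by
  obtain ⟨p, q, _ | _⟩ := a <;> simp [mul_false, mul_true]

/-- The sign. -/
def sign : Wr Γ →* ℤˣ where
  toFun a := bif a.o then -1 else 1
  map_one' := rfl
  map_mul' a b := by rw [mul_o]; cases a.o <;> cases b.o <;> decide

/-- Apply a homomorphism to both coordinates. -/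
def map (f : Γ →* Δ) : Wr Γ →* Wr Δ where
  toFun a := ⟨f a.p, f a.q, a.o⟩
  map_one' := by simp [one_def]
  map_mul' a b := by obtain ⟨p, q, _ | _⟩ := a <;> simp [mul_false, mul_true]

@[simp] theorem map_p (f : Γ →* Δ) (a : Wr Γ) : (map f a).p = f a.p := rfl

@[simp] theorem map_q (f : Γ →* Δ) (a : Wr Γ) : (map f a).q = f a.q := rfl

@[simp] theorem map_o (f : Γ →* Δ) (a : Wr Γ) : (map f a).o = a.o := rfl

end Wr

end CfsgLib.Fi24Mult
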