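import Cfsg.Agent.Fi24Mult.Sections
import Cfsg.Agent.Fi24Mult.Swap
import Mathlib.Tactic.FinCases

/-!
The lifts of the letters in the wreath product of a central extension of `Fi₂₄′` by the group of
order two, and the relators they satisfy.
-/

set_option autoImplicit false
set_option maxRecDepth 100000
set_option linter.style.haveILetI false

namespace CfsgLib.Fi24Mult

open CfsgLib.CosetEnum

noncomputable section

local notation "G" => Fi24.setup.Grp

/-- The neighbour of a letter towards the letter `l`. -/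
def pr (x : ℕ) : ℕ := [10, 0, 1, 2, 3, 4, 5, 3, 7, 6, 11].getD x 11

/-- The letter whose centraliser lifts the edge at a letter. -/
def tOf (x : ℕ) : ℕ := bif Nat.beq x 7 || Nat.beq x 8 then 9 else 8

/-- The edge at a letter is covered by a centraliser. -/
def edgeIn (t x : ℕ) : Bool :=
  Nat.blt x 12 && Nat.blt (pr x) 12 && Nat.blt (tOf x) 12 && comB x t && comB (pr x) t &&
    comB x (tOf x) && comB (pr x) (tOf x) && comB t (tOf x) &&
    (Fi24.words.contains [x, pr x, x, pr x, x, pr x] || Fi24.words.contains [pr x, x, pr x, x, pr x, x])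

/-- The base letter of a centraliser. -/
def base (t : ℕ) : ℕ := bif Nat.beq t 0 then 3 else bif Nat.beq t 11 then 0 else 11

/-- The letters reached from the base inside a centraliser. -/
def goodL (t : ℕ) : List ℕ :=
  bif Nat.beq t 8 then [11, 10, 0, 1, 2, 3, 4, 5, 6, 9]
  else bif Nat.beq t 9 then [11, 10, 0, 1, 2, 3, 4, 5, 7, 8]
  else bif Nat.beq t 0 then [3, 2, 4, 5, 6, 9, 7, 8]
  else bif Nat.beq t 11 then [0, 1, 2, 3, 4, 5, 6, 9, 7, 8]
  else []

/-- A word checked inside one of the four centralisers. -/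
def goodFor (w : List ℕ) : Bool :=
  Nat.beq (w.length % 2) 0 && [8, 9, 0, 11].any (fun t => w.all (fun x => (goodL t).contains x))

variable {Γ : Type} [Group Γ] (X : Ext Γ)

/-- The lift of the edge at a letter. -/
def Ext.lift (x : ℕ) : Γ := X.sec (tOf x) (lt x * lt (pr x))

/-- The lifts along the tree, with fuel. -/
def Ext.yF : ℕ → ℕ → Γ
  | 0, _ => 1
  | f + 1, x => bif Nat.beq x 11 then 1 else X.lift x * Ext.yF f (pr x)

/-- The lift of a letter times `l`. -/
def Ext.y (x : ℕ) : Γ := X.yF 12 x

theorem Ext.y_last : X.y 11 = 1 := rfl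

theorem Ext.y_step {x : ℕ} (hx : x < 11) : X.y x = X.lift x * X.y (pr x) := by
  interval_cases x <;> rfl

theorem pow_three_word {x p : ℕ}
    (h : (Fi24.words.contains [x, p, x, p, x, p] || Fi24.words.contains [p, x, p, x, p, x]) = true) :
    lt x * (lt p * (lt x * (lt p * (lt x * lt p)))) = 1 := by
  simp only [Bool.or_eq_true, List.contains_eq_mem, decide_eq_true_eq] at h
  rcases h with h | h
  · have h1 := Fi24.setup.prod_mem _ h
    simpa [prodw] using h1
  · have h1 := congrArg (fun u : G => u⁻¹) (Fi24.setup.prod_mem _ h)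
    simp only [prodw, List.map_cons, List.map_nil, List.prod_cons, List.prod_nil, mul_one, inv_one,
      mul_inv_rev, lt_inv, Fi24.inv_g] at h1
    simpa only [mul_assoc] using h1

theorem Ext.edge_eq {t x : ℕ} (ht : t < 12) (h : edgeIn t x = true) :
    X.sec t (lt x * lt (pr x)) = X.lift x ∧ Ev t (lt x * lt (pr x)) ∧ Ev t (lt (pr x) * lt x) := by
  simp only [edgeIn, Bool.and_eq_true, Nat.blt_eq] at h
  obtain ⟨⟨⟨⟨⟨⟨⟨⟨hx, hp⟩, hs⟩, h1⟩, h2⟩, h3⟩, h4⟩, h5⟩, h6⟩ := h
  exact ⟨X.sec_agree ht hs hx hp h5 h1 h2 h3 h4 (pow_three_word h6),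
    Ev.pair hx hp h1 h2, Ev.pair hp hx h2 h1⟩

/-- The lift of a letter relative to a base letter is the canonical one. -/
def Ext.Good (t r x : ℕ) : Prop :=
  x < 12 ∧ comB x t = true ∧ X.y x * (X.y r)⁻¹ = X.sec t (lt x * lt r)

theorem Ext.good_base {t r : ℕ} (ht : t < 12) (hr : r < 12) (hrt : comB r t = true) : X.Good t r r :=
  ⟨hr, hrt, by rw [mul_inv_cancel, lt_sq, X.sec_one ht]⟩

theorem Ext.good_up {t r x : ℕ} (ht : t < 12) (hr : r < 12) (hrt : comB r t = true) (hx : x < 11)
    (he : edgeIn t x = true) (hg : X.Good t r (pr x)) : X.Good t r x := by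
  obtain ⟨e1, e2, -⟩ := X.edge_eq ht he
  obtain ⟨hp, hpt, hv⟩ := hg
  simp only [edgeIn, Bool.and_eq_true, Nat.blt_eq] at he
  refine ⟨he.1.1.1.1.1.1.1.1, he.1.1.1.1.1.2, ?_⟩
  rw [X.y_step hx, mul_assoc, hv, ← e1, ← X.sec_mul ht e2 (Ev.pair hp hr hpt hrt)]
  congr 1
  rw [mul_assoc, ← mul_assoc (lt (pr x)) (lt (pr x)), lt_sq, one_mul]

theorem Ext.good_down {t r x : ℕ} (ht : t < 12) (hr : r < 12) (hrt : comB r t = true) (hx : x < 11)
    (he : edgeIn t x = true) (hg : X.Good t r x) : X.Good t r (pr x) := by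
  obtain ⟨e1, e2, e3⟩ := X.edge_eq ht he
  obtain ⟨hx', hxt, hv⟩ := hg
  simp only [edgeIn, Bool.and_eq_true, Nat.blt_eq] at he
  refine ⟨he.1.1.1.1.1.1.1.2, he.1.1.1.1.2, ?_⟩
  have h1 : X.y (pr x) = (X.lift x)⁻¹ * X.y x := by rw [X.y_step hx, inv_mul_cancel_left]
  rw [h1, mul_assoc, hv, ← e1, ← X.sec_inv ht e2,
    show (lt x * lt (pr x))⁻¹ = lt (pr x) * lt x by rw [mul_inv_rev, lt_inv, lt_inv],
    ← X.sec_mul ht e3 (Ev.pair hx' hr hxt hrt)]
  congr 1
  rw [mul_assoc, ← mul_assoc (lt x) (lt x), lt_sq, one_mul]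

theorem Ext.good_all : ∀ t ∈ [8, 9, 0, 11], ∀ x ∈ goodL t, X.Good t (base t) x := by
  have a11 := X.good_base (t := 8) (r := 11) (by norm_num) (by norm_num) (by decide +kernel)
  have a10 := X.good_up (x := 10) (by norm_num) (by norm_num) (by decide +kernel) (by norm_num) (by decide +kernel) a11
  have a0 := X.good_up (x := 0) (by norm_num) (by norm_num) (by decide +kernel) (by norm_num) (by decide +kernel) a10
  have a1 := X.good_up (x := 1) (by norm_num) (by norm_num) (by decide +kernel) (by norm_num) (by decide +kernel) a0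
  have a2 := X.good_up (x := 2) (by norm_num) (by norm_num) (by decide +kernel) (by norm_num) (by decide +kernel) a1
  have a3 := X.good_up (x := 3) (by norm_num) (by norm_num) (by decide +kernel) (by norm_num) (by decide +kernel) a2
  have a4 := X.good_up (x := 4) (by norm_num) (by norm_num) (by decide +kernel) (by norm_num) (by decide +kernel) a3
  have a5 := X.good_up (x := 5) (by norm_num) (by norm_num) (by decide +kernel) (by norm_num) (by decide +kernel) a4
  have a6 := X.good_up (x := 6) (by norm_num) (by norm_num) (by decide +kernel) (by norm_num) (by decide +kernel) a5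
  have a9 := X.good_up (x := 9) (by norm_num) (by norm_num) (by decide +kernel) (by norm_num) (by decide +kernel) a6
  have b11 := X.good_base (t := 9) (r := 11) (by norm_num) (by norm_num) (by decide +kernel)
  have b10 := X.good_up (x := 10) (by norm_num) (by norm_num) (by decide +kernel) (by norm_num) (by decide +kernel) b11
  have b0 := X.good_up (x := 0) (by norm_num) (by norm_num) (by decide +kernel) (by norm_num) (by decide +kernel) b10
  have b1 := X.good_up (x := 1) (by norm_num) (by norm_num) (by decide +kernel) (by norm_num) (by decide +kernel) b0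
  have b2 := X.good_up (x := 2) (by norm_num) (by norm_num) (by decide +kernel) (by norm_num) (by decide +kernel) b1
  have b3 := X.good_up (x := 3) (by norm_num) (by norm_num) (by decide +kernel) (by norm_num) (by decide +kernel) b2
  have b4 := X.good_up (x := 4) (by norm_num) (by norm_num) (by decide +kernel) (by norm_num) (by decide +kernel) b3
  have b5 := X.good_up (x := 5) (by norm_num) (by norm_num) (by decide +kernel) (by norm_num) (by decide +kernel) b4
  have b7 := X.good_up (x := 7) (by norm_num) (by norm_num) (by decide +kernel) (by norm_num) (by decide +kernel) b3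
  have b8 := X.good_up (x := 8) (by norm_num) (by norm_num) (by decide +kernel) (by norm_num) (by decide +kernel) b7
  have c3 := X.good_base (t := 0) (r := 3) (by norm_num) (by norm_num) (by decide +kernel)
  have c2 := X.good_down (x := 3) (by norm_num) (by norm_num) (by decide +kernel) (by norm_num) (by decide +kernel) c3
  have c4 := X.good_up (x := 4) (by norm_num) (by norm_num) (by decide +kernel) (by norm_num) (by decide +kernel) c3
  have c5 := X.good_up (x := 5) (by norm_num) (by norm_num) (by decide +kernel) (by norm_num) (by decide +kernel) c4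
  have c6 := X.good_up (x := 6) (by norm_num) (by norm_num) (by decide +kernel) (by norm_num) (by decide +kernel) c5
  have c9 := X.good_up (x := 9) (by norm_num) (by norm_num) (by decide +kernel) (by norm_num) (by decide +kernel) c6
  have c7 := X.good_up (x := 7) (by norm_num) (by norm_num) (by decide +kernel) (by norm_num) (by decide +kernel) c3
  have c8 := X.good_up (x := 8) (by norm_num) (by norm_num) (by decide +kernel) (by norm_num) (by decide +kernel) c7
  have d0 := X.good_base (t := 11) (r := 0) (by norm_num) (by norm_num) (by decide +kernel)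
  have d1 := X.good_up (x := 1) (by norm_num) (by norm_num) (by decide +kernel) (by norm_num) (by decide +kernel) d0
  have d2 := X.good_up (x := 2) (by norm_num) (by norm_num) (by decide +kernel) (by norm_num) (by decide +kernel) d1
  have d3 := X.good_up (x := 3) (by norm_num) (by norm_num) (by decide +kernel) (by norm_num) (by decide +kernel) d2
  have d4 := X.good_up (x := 4) (by norm_num) (by norm_num) (by decide +kernel) (by norm_num) (by decide +kernel) d3
  have d5 := X.good_up (x := 5) (by norm_num) (by norm_num) (by decide +kernel) (by norm_num) (by decide +kernel) d4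
  have d6 := X.good_up (x := 6) (by norm_num) (by norm_num) (by decide +kernel) (by norm_num) (by decide +kernel) d5
  have d9 := X.good_up (x := 9) (by norm_num) (by norm_num) (by decide +kernel) (by norm_num) (by decide +kernel) d6
  have d7 := X.good_up (x := 7) (by norm_num) (by norm_num) (by decide +kernel) (by norm_num) (by decide +kernel) d3
  have d8 := X.good_up (x := 8) (by norm_num) (by norm_num) (by decide +kernel) (by norm_num) (by decide +kernel) d7
  intro t ht x hx
  simp only [List.mem_cons, List.not_mem_nil, or_false] at ht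
  rcases ht with rfl | rfl | rfl | rfl
  · change x ∈ [11, 10, 0, 1, 2, 3, 4, 5, 6, 9] at hx
    fin_cases hx <;> assumption
  · change x ∈ [11, 10, 0, 1, 2, 3, 4, 5, 7, 8] at hx
    fin_cases hx <;> assumption
  · change x ∈ [3, 2, 4, 5, 6, 9, 7, 8] at hx
    fin_cases hx <;> assumption
  · change x ∈ [0, 1, 2, 3, 4, 5, 6, 9, 7, 8] at hx
    fin_cases hx <;> assumption

/-- The lift of a letter. -/
def Ext.L (x : ℕ) : Wr Γ := ⟨X.y x, (X.y x)⁻¹, true⟩

theorem Ext.L_sq (x : ℕ) : X.L x * X.L x = 1 := by simp [Ext.L, Wr.mul_true, Wr.one_def]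

theorem Ext.pair (x z : ℕ) : X.L x * X.L z = ⟨X.y x * (X.y z)⁻¹, (X.y x)⁻¹ * X.y z, false⟩ := by
  simp [Ext.L, Wr.mul_true]

theorem Ext.word_good {t : ℕ} (ht : t < 12) (hr : base t < 12) (hrt : comB (base t) t = true) :
    ∀ w : List ℕ, w.length % 2 = 0 → (∀ x ∈ w, X.Good t (base t) x) →
      Ev t (prodw lt w) ∧ Ev t (lt (base t) * prodw lt w * lt (base t)) ∧
      prodw X.L w = ⟨X.sec t (prodw lt w),
        (X.y (base t))⁻¹ * X.sec t (lt (base t) * prodw lt w * lt (base t)) * X.y (base t), false⟩
  | [], _, _ => ⟨Ev.one t, by rw [show prodw lt ([] : List ℕ) = 1 from rfl, mul_one, lt_sq]; exact Ev.one t, by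
      rw [show prodw lt ([] : List ℕ) = 1 from rfl, mul_one, lt_sq, X.sec_one ht, mul_one, inv_mul_cancel]
      rfl⟩
  | [_], h, _ => absurd h (by simp)
  | x :: z :: w, h, hg => by
    obtain ⟨i1, i2, i3⟩ := Ext.word_good ht hr hrt w (by simp only [List.length_cons] at h; omega)
      fun a ha => hg a (List.mem_cons_of_mem _ (List.mem_cons_of_mem _ ha))
    obtain ⟨hx, hxt, gx⟩ := hg x List.mem_cons_self
    obtain ⟨hz, hzt, gz⟩ := hg z (List.mem_cons_of_mem _ List.mem_cons_self)
    set r := base t with hr'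
    have exr := Ev.pair (t := t) hx hr hxt hrt
    have ezr := Ev.pair (t := t) hz hr hzt hrt
    have exz := Ev.pair (t := t) hx hz hxt hzt
    have s1 : X.sec t (lt x * lt z) = X.y x * (X.y z)⁻¹ := by
      rw [show lt x * lt z = lt x * lt r * (lt z * lt r)⁻¹ by
          rw [mul_inv_rev, lt_inv, lt_inv, mul_assoc, ← mul_assoc (lt r), lt_sq, one_mul],
        X.sec_mul ht exr ezr.inv, X.sec_inv ht ezr, ← gx, ← gz]
      group
    have s2 : X.sec t ((lt x * lt r)⁻¹ * (lt z * lt r)) = X.y r * ((X.y x)⁻¹ * X.y z) * (X.y r)⁻¹ := by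
      rw [X.sec_mul ht exr.inv ezr, X.sec_inv ht exr, ← gx, ← gz]
      group
    have hpw : prodw lt (x :: z :: w) = lt x * lt z * prodw lt w := by
      rw [prodw_cons, prodw_cons, mul_assoc]
    have hcon : lt r * (lt x * lt z * prodw lt w) * lt r =
        (lt x * lt r)⁻¹ * (lt z * lt r) * (lt r * prodw lt w * lt r) := by
      rw [mul_inv_rev, lt_inv, lt_inv]
      calc lt r * (lt x * lt z * prodw lt w) * lt r
          = lt r * lt x * lt z * 1 * prodw lt w * lt r := by simp only [mul_assoc, one_mul]
        _ = lt r * lt x * lt z * (lt r * lt r) * prodw lt w * lt r := by rw [lt_sq]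
        _ = _ := by simp only [mul_assoc]
    refine ⟨hpw ▸ exz.mul i1, ?_, ?_⟩
    · rw [hpw, hcon]; exact (exr.inv.mul ezr).mul i2
    · rw [prodw_cons, prodw_cons, ← mul_assoc, X.pair, i3, Wr.mul_false, hpw, hcon,
        X.sec_mul ht exz i1, X.sec_mul ht (exr.inv.mul ezr) i2, s1, s2]
      refine Wr.ext rfl ?_ rfl
      show (X.y x)⁻¹ * X.y z * ((X.y r)⁻¹ * _ * X.y r) = (X.y r)⁻¹ * (_ * _) * X.y r
      group

theorem Ext.good_word {w : List ℕ} (h : goodFor w = true) :
    ∃ t, t ∈ [8, 9, 0, 11] ∧ w.length % 2 = 0 ∧ (∀ x ∈ w, X.Good t (base t) x) ∧ t < 12 ∧ base t < 12 ∧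
      comB (base t) t = true := by
  simp only [goodFor, Bool.and_eq_true, Nat.beq_eq, List.any_eq_true, List.all_eq_true,
    List.contains_eq_mem, decide_eq_true_eq] at h
  obtain ⟨h1, t, ht, hw⟩ := h
  refine ⟨t, ht, h1, fun x hx => X.good_all t ht x (hw x hx), ?_⟩
  simp only [List.mem_cons, List.not_mem_nil, or_false] at ht
  rcases ht with rfl | rfl | rfl | rfl <;> exact ⟨by norm_num, by decide, by decide +kernel⟩

/-- A relator inside one centraliser holds for the lifts. -/
theorem Ext.word_one {w : List ℕ} (h : goodFor w = true) (hw : prodw lt w = 1) : prodw X.L w = 1 := by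
  obtain ⟨t, -, h1, h2, h3, h4, h5⟩ := X.good_word h
  obtain ⟨-, -, h6⟩ := X.word_good h3 h4 h5 w h1 h2
  rw [h6, hw, mul_one, lt_sq, X.sec_one h3, mul_one, inv_mul_cancel]
  rfl

theorem Ext.down_lift {x : ℕ} (hx : x < 11) : X.down (X.lift x) = lt x * lt (pr x) := by
  have h1 : tOf x < 12 ∧ comB x (tOf x) = true ∧ comB (pr x) (tOf x) = true ∧ x < 12 ∧ pr x < 12 := by
    interval_cases x <;> decide +kernel
  exact X.sec_spec h1.1 (Ev.pair h1.2.2.2.1 h1.2.2.2.2 h1.2.1 h1.2.2.1)

theorem Ext.down_y {x : ℕ} (hx : x < 12) : X.down (X.y x) = lt x * lt 11 := by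
  have step : ∀ a : ℕ, a < 11 → X.down (X.y (pr a)) = lt (pr a) * lt 11 → X.down (X.y a) = lt a * lt 11 :=
    fun a ha h => by
      rw [X.y_step ha, map_mul, X.down_lift ha, h, mul_assoc, ← mul_assoc (lt (pr a)), lt_sq, one_mul]
  have h11 : X.down (X.y 11) = lt 11 * lt 11 := by rw [X.y_last, map_one, lt_sq]
  have h10 := step 10 (by norm_num) h11
  have h0 := step 0 (by norm_num) h10
  have h1 := step 1 (by norm_num) h0
  have h2 := step 2 (by norm_num) h1
  have h3 := step 3 (by norm_num) h2
  have h4 := step 4 (by norm_num) h3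
  have h5 := step 5 (by norm_num) h4
  have h6 := step 6 (by norm_num) h5
  have h9 := step 9 (by norm_num) h6
  have h7 := step 7 (by norm_num) h3
  have h8 := step 8 (by norm_num) h7
  interval_cases x <;> assumption

/-- The images of the coordinates of a word. -/
theorem Ext.down_word : ∀ w : List ℕ, (∀ x ∈ w, x < 12) →
    X.down (prodw X.L w).p = prodw lt w * (bif (prodw X.L w).o then lt 11 else 1) ∧
    X.down (prodw X.L w).q = lt 11 * prodw lt w * (bif (prodw X.L w).o then 1 else lt 11)
  | [], _ => by simp [prodw, Wr.one_def, lt_sq]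
  | x :: w, hw => by
    obtain ⟨h1, h2⟩ := Ext.down_word w fun a ha => hw a (List.mem_cons_of_mem _ ha)
    have hy := X.down_y (hw x List.mem_cons_self)
    rw [prodw_cons, prodw_cons, Ext.L, Wr.mul_true]
    generalize prodw X.L w = a at h1 h2
    generalize prodw lt w = g at h1 h2
    obtain ⟨p, q, o⟩ := a
    constructor
    · show X.down (X.y x * q) = lt x * g * (bif !o then lt 11 else 1)
      rw [map_mul, hy, h2, mul_assoc (lt x), ← mul_assoc (lt 11), ← mul_assoc (lt 11), lt_sq, one_mul]
      cases o <;> simp [mul_assoc]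
    · show X.down ((X.y x)⁻¹ * p) = lt 11 * (lt x * g) * (bif !o then 1 else lt 11)
      rw [map_mul, map_inv, hy, mul_inv_rev, lt_inv, lt_inv, h1]
      cases o <;> simp [mul_assoc]

theorem Ext.L_odd (w : List ℕ) : (prodw X.L w).o = Nat.beq (w.length % 2) 1 := by
  induction w with
  | nil => rfl
  | cons x w ih =>
    rw [prodw_cons, Wr.mul_o, ih, List.length_cons]
    rcases Nat.mod_two_eq_zero_or_one w.length with h | h <;>
      rw [h, show (w.length + 1) % 2 = 1 - w.length % 2 by omega, h] <;> rfl

end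

end CfsgLib.Fi24Mult
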