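import Cfsg.Agent.Fi24Mult.ShiftAll
import Cfsg.Agent.CosetEnum.Fi24H.Fix
import Cfsg.Agent.CosetEnum.Fi24H.Perm
import Mathlib.Data.ZMod.Basic
import Mathlib.Tactic.LinearCombination

/-!
The action of the triple cover on the 306936 points with a residue modulo three.
-/

set_option autoImplicit false
set_option maxRecDepth 100000

namespace CfsgLib.Fi24Mult

open CfsgLib.CosetEnum CfsgLib.CosetEnum.Fi24H

noncomputable section

/-- The points of the triple cover. -/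
abbrev Pt : Type := Fin 306936 × ZMod 3

/-- The shift of a letter at a point. -/
def sh (x i : ℕ) : ZMod 3 := ((fld x (shiftT i) : ℕ) : ZMod 3)

/-- One step on numbers. -/
def stp (x : ℕ) (p : ℕ × ZMod 3) : ℕ × ZMod 3 := (Fi24H.T x p.1, -(p.2 + sh x p.1))

/-- A path on numbers. -/
def walkZ (w : List ℕ) (p : ℕ × ZMod 3) : ℕ × ZMod 3 := w.foldl (fun a x => stp x a) p

theorem walkZ_cons (x : ℕ) (w : List ℕ) (p : ℕ × ZMod 3) : walkZ (x :: w) p = walkZ w (stp x p) := rfl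

theorem walkZ_append (v w : List ℕ) (p : ℕ × ZMod 3) : walkZ (v ++ w) p = walkZ w (walkZ v p) :=
  List.foldl_append

/-- The word of the last relator. -/
def spWord : List ℕ := (List.replicate 17 [3, 2, 1, 0, 10, 11, 3, 4, 5, 6, 9, 3, 7, 8]).flatten

def spec (i : ℕ) (hi : i < 306936) := shiftOK_spec i hi (shift_all i (Nat.zero_le _) hi)

theorem T_spec {x i : ℕ} (hx : x < 12) (hi : i < 306936) : Fi24H.T x i < 306936 ∧ Fi24H.T x (Fi24H.T x i) = i := by
  have h1 := (perm_apply fix_all x hx ⟨i, hi⟩).symm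
  refine ⟨h1 ▸ (perm fix_all x ⟨i, hi⟩).2, ?_⟩
  have h2 := congrArg Fin.val (DFunLike.congr_fun (perm_sq fix_all x) (⟨i, hi⟩ : Fin 306936))
  rw [Equiv.Perm.mul_apply, perm_apply fix_all x hx, perm_apply fix_all x hx] at h2
  exact h2

theorem sh_T {x i : ℕ} (hx : x < 12) (hi : i < 306936) : sh x (Fi24H.T x i) = sh x i := by
  have h := spec i hi
  have key : ∀ {a p}, symS a (shiftT i) (shiftT p) = true → sh a p = sh a i := fun {a p} h => by
    simp only [symS, Bool.and_eq_true, Nat.beq_eq] at h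
    rw [sh, sh, h.1]
  interval_cases x
  exacts [key h.1, key h.2.1, key h.2.2.1, key h.2.2.2.1, key h.2.2.2.2.1, key h.2.2.2.2.2.1,
    key h.2.2.2.2.2.2.1, key h.2.2.2.2.2.2.2.1, key h.2.2.2.2.2.2.2.2.1, key h.2.2.2.2.2.2.2.2.2.1,
    key h.2.2.2.2.2.2.2.2.2.2.1, key h.2.2.2.2.2.2.2.2.2.2.2.1]

theorem stp_stp {x : ℕ} (hx : x < 12) {p : ℕ × ZMod 3} (hp : p.1 < 306936) : stp x (stp x p) = p := by
  refine Prod.ext (T_spec hx hp).2 ?_
  show -(-(p.2 + sh x p.1) + sh x (Fi24H.T x p.1)) = p.2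
  rw [sh_T hx hp]
  ring

/-- The permutation of a letter. -/
def pe (x : ℕ) : Equiv.Perm Pt :=
  if hx : x < 12 then
    Function.Involutive.toPerm (fun p => (⟨Fi24H.T x p.1, (T_spec hx p.1.2).1⟩, -(p.2 + sh x p.1))) (fun p => by
      have h := stp_stp hx (p := (p.1.val, p.2)) p.1.2
      exact Prod.ext (Fin.ext (congrArg Prod.fst h :)) (congrArg Prod.snd h :))
  else 1

theorem pe_val {x : ℕ} (hx : x < 12) (p : Pt) :
    (((pe x p).1 : ℕ), (pe x p).2) = stp x (p.1, p.2) := by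
  rw [pe, dif_pos hx]
  rfl

theorem pe_sq (x : ℕ) : pe x * pe x = 1 := by
  by_cases hx : x < 12
  · refine Equiv.ext fun p => ?_
    rw [pe, dif_pos hx]
    exact Function.Involutive.toPerm_involutive _ p
  · rw [pe, dif_neg hx, mul_one]

theorem pe_inv (x : ℕ) : (pe x)⁻¹ = pe x := inv_eq_of_mul_eq_one_right (pe_sq x)

theorem pe_word : ∀ w : List ℕ, (∀ x ∈ w, x < 12) → ∀ p : Pt,
    ((((prodw pe w)⁻¹ p).1 : ℕ), ((prodw pe w)⁻¹ p).2) = walkZ w (p.1, p.2)
  | [], _, _ => by simp [prodw, walkZ]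
  | x :: w, hw, p => by
    rw [prodw_cons, mul_inv_rev, Equiv.Perm.mul_apply, pe_inv,
      pe_word w (fun y hy => hw y (List.mem_cons_of_mem x hy)), pe_val (hw x List.mem_cons_self), walkZ_cons]

theorem word_one_of_fix {w : List ℕ} (hw : ∀ x ∈ w, x < 12)
    (h : ∀ i, i < 306936 → ∀ t, walkZ w (i, t) = (i, t)) : prodw pe w = 1 := by
  rw [← inv_eq_one]
  refine Equiv.ext fun p => ?_
  have h1 := (pe_word w hw p).trans (h p.1 p.1.2 p.2)
  exact Prod.ext (Fin.ext (congrArg Prod.fst h1 :)) (congrArg Prod.snd h1 :)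

theorem walkT_word {w : List ℕ} (hw : w ∈ Fi24.words) {i : ℕ} (hi : i < 306936) : walkT w i = i := by
  obtain ⟨φ, hφ⟩ := exists_perm_hom fix_all
  have hlt : ∀ x ∈ w, x < 12 := by
    have h := List.all_eq_true.mp (show Fi24.words.all (fun w => w.all (fun x => Nat.blt x 12)) = true by
      decide +kernel) w hw
    simpa using h
  have h1 : φ (prodw Fi24.setup.g w) = 1 := by rw [Fi24.setup.prod_mem w hw, map_one]
  rw [Fi24.setup.hom_prodw φ hφ w hlt] at h1
  have h2 := perm_word fix_all w hlt ⟨i, hi⟩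
  rw [h1, inv_one] at h2
  exact h2.symm

theorem cast_of_z3 {n : ℕ} (h : z3 n = true) : (n : ZMod 3) = 0 := by
  rw [ZMod.natCast_eq_zero_iff]
  exact Nat.dvd_of_mod_eq_zero (Nat.eq_of_beq_eq_true h)

theorem two_eq : (2 : ZMod 3) = -1 := by decide

theorem comW (x y : ℕ) (hx : x < 12) (hy : y < 12) (hw : [x, y, x, y] ∈ Fi24.words)
    (hc : ∀ i, i < 306936 → comS x y (shiftT i) (shiftT (Fi24H.T x i)) (shiftT (Fi24H.T y i)) = true) :
    prodw pe [x, y, x, y] = 1 := by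
  refine word_one_of_fix (by simp [hx, hy]) fun i hi t => ?_
  have hcl : Fi24H.T y (Fi24H.T x (Fi24H.T y (Fi24H.T x i))) = i := walkT_word hw hi
  obtain ⟨ha, -⟩ := T_spec hx hi
  obtain ⟨hb, -⟩ := T_spec hy ha
  obtain ⟨hc1, hc2⟩ := T_spec hx hb
  obtain ⟨hf, -⟩ := T_spec hy hi
  have e : Fi24H.T x (Fi24H.T y (Fi24H.T x i)) = Fi24H.T y i := by
    conv_rhs => rw [← hcl]
    rw [(T_spec hy hc1).2]
  show stp y (stp x (stp y (stp x (i, t)))) = (i, t)
  refine Prod.ext hcl ?_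
  show -(-(-(-(t + sh x i) + sh y (Fi24H.T x i)) + sh x (Fi24H.T y (Fi24H.T x i))) + sh y (Fi24H.T x (Fi24H.T y (Fi24H.T x i)))) = t
  rw [← sh_T hx hb, e, sh_T hy hi]
  have h := cast_of_z3 (hc i hi)
  simp only [Nat.add_eq, Nat.mul_eq] at h
  push_cast at h
  rw [two_eq] at h
  simp only [sh] at *
  linear_combination h

theorem braW (x y : ℕ) (hx : x < 12) (hy : y < 12) (hw : [x, y, x, y, x, y] ∈ Fi24.words)
    (hc : ∀ i, i < 306936 → braS x y (shiftT i) (shiftT (Fi24H.T x i)) (shiftT (Fi24H.T y (Fi24H.T x i)))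
      (shiftT (Fi24H.T x (Fi24H.T y (Fi24H.T x i)))) (shiftT (Fi24H.T y i)) = true) :
    prodw pe [x, y, x, y, x, y] = 1 := by
  refine word_one_of_fix (by simp [hx, hy]) fun i hi t => ?_
  have hcl : Fi24H.T y (Fi24H.T x (Fi24H.T y (Fi24H.T x (Fi24H.T y (Fi24H.T x i))))) = i := walkT_word hw hi
  obtain ⟨ha, -⟩ := T_spec hx hi
  obtain ⟨hb, -⟩ := T_spec hy ha
  obtain ⟨hc1, -⟩ := T_spec hx hb
  obtain ⟨he, -⟩ := T_spec hy hc1
  obtain ⟨hg, -⟩ := T_spec hx he
  have e : Fi24H.T x (Fi24H.T y (Fi24H.T x (Fi24H.T y (Fi24H.T x i)))) = Fi24H.T y i := by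
    conv_rhs => rw [← hcl]
    rw [(T_spec hy hg).2]
  show stp y (stp x (stp y (stp x (stp y (stp x (i, t)))))) = (i, t)
  refine Prod.ext hcl ?_
  show -(-(-(-(-(-(t + sh x i) + sh y (Fi24H.T x i)) + sh x (Fi24H.T y (Fi24H.T x i))) + sh y (Fi24H.T x (Fi24H.T y (Fi24H.T x i)))) +
    sh x (Fi24H.T y (Fi24H.T x (Fi24H.T y (Fi24H.T x i))))) + sh y (Fi24H.T x (Fi24H.T y (Fi24H.T x (Fi24H.T y (Fi24H.T x i)))))) = t
  rw [← sh_T hx he, e, sh_T hy hi]
  have h := cast_of_z3 (hc i hi)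
  simp only [Nat.add_eq, Nat.mul_eq] at h
  push_cast at h
  rw [two_eq] at h
  simp only [sh] at *
  linear_combination h

/-- The composite of seven letters. -/
def w7 : List ℕ := [7, 5, 4, 3, 2, 1, 0]

/-- The composite of fourteen letters. -/
def w14 : List ℕ := [3, 2, 1, 0, 10, 11, 3, 4, 5, 6, 9, 3, 7, 8]

theorem walkZ_fst : ∀ (w : List ℕ) (p : ℕ × ZMod 3), (walkZ w p).1 = walkT w p.1
  | [], _ => rfl
  | x :: w, p => by rw [walkZ_cons, walkZ_fst w, walkT_cons]; rfl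

theorem cast_step (a b : ℕ) : ((Nat.mod (Nat.mul 2 (Nat.add a b)) 3 : ℕ) : ZMod 3) = -((a : ZMod 3) + b) := by
  show ((2 * (a + b) % 3 : ℕ) : ZMod 3) = _
  rw [ZMod.natCast_mod]
  push_cast
  rw [two_eq]
  ring

/-- The number that the checks compute along a path. -/
def accN : List ℕ → ℕ → ℕ → ℕ
  | [], _, t => t
  | x :: w, p, t => accN w (Fi24H.T x p) (Nat.mod (Nat.mul 2 (Nat.add t (fld x (shiftT p)))) 3)

theorem accN_eq : ∀ (w : List ℕ) (p t : ℕ), ((accN w p t : ℕ) : ZMod 3) = (walkZ w (p, (t : ZMod 3))).2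
  | [], _, _ => rfl
  | x :: w, p, t => by
    rw [accN, accN_eq w, cast_step, walkZ_cons]
    rfl

theorem accN_shift : ∀ (w : List ℕ) (p : ℕ) (t : ZMod 3),
    (walkZ w (p, t)).2 = (-1) ^ w.length * t + (walkZ w (p, 0)).2
  | [], _, _ => by simp [walkZ]
  | x :: w, p, t => by
    rw [walkZ_cons, walkZ_cons, stp, stp, accN_shift w _ (-(t + sh x p)),
      accN_shift w _ (-(0 + sh x p)), List.length_cons, pow_succ]
    ring

theorem walk7 {p : ℕ} (hp : p < 306936) (t : ZMod 3) :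
    walkZ w7 (p, t) = (c7 p, -t + (fld 12 (shiftT p) : ℕ)) := by
  have h := spec p hp
  have h7 : cmpS7 p (shiftT p) = true :=
    h.2.2.2.2.2.2.2.2.2.2.2.2.2.2.2.2.2.2.2.2.2.2.2.2.2.2.2.2.2.2.2.2.2.2.2.2.2.2.2.2.2.2.2.2.2.2.2.2.2.2.2.2.2.2.2.2.2.2.2.2.2.2.2.2.2.2.2.2.2.2.2.2.2.2.2.2.2.2.1
  have hT : cmp7 p = true := by
    have hf := fastFix_spec fix_all p hp
    simp only [← and_assoc] at hf
    exact hf.1.1.1.2
  refine Prod.ext ?_ ?_
  · rw [walkZ_fst]
    simp only [cmp7, force_eq, Nat.beq_eq] at hT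
    exact hT.symm
  · rw [accN_shift, show (-1 : ZMod 3) ^ w7.length * t = -t by simp [w7]; ring]
    have e : accN w7 p 0 % 3 = fld 12 (shiftT p) := by
      simp only [cmpS7, force_eq, Nat.beq_eq] at h7
      exact h7
    have h1 := accN_eq w7 p 0
    rw [Nat.cast_zero] at h1
    rw [← h1, ← e, ZMod.natCast_mod]

theorem walk14 {p : ℕ} (hp : p < 306936) (t : ZMod 3) :
    walkZ w14 (p, t) = (c14 p, t + (fld 13 (shiftT p) : ℕ)) := by
  have h := spec p hp
  have h14 : cmpS14 p (shiftT p) = true :=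
    h.2.2.2.2.2.2.2.2.2.2.2.2.2.2.2.2.2.2.2.2.2.2.2.2.2.2.2.2.2.2.2.2.2.2.2.2.2.2.2.2.2.2.2.2.2.2.2.2.2.2.2.2.2.2.2.2.2.2.2.2.2.2.2.2.2.2.2.2.2.2.2.2.2.2.2.2.2.2.2.1
  have hT : cmp14 p = true := by
    have hf := fastFix_spec fix_all p hp
    simp only [← and_assoc] at hf
    exact hf.1.1.2
  refine Prod.ext ?_ ?_
  · rw [walkZ_fst]
    simp only [cmp14, force_eq, Nat.beq_eq] at hT
    exact hT.symm
  · rw [accN_shift, show (-1 : ZMod 3) ^ w14.length * t = t by simp [w14]; ring]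
    have e : accN w14 p 0 % 3 = fld 13 (shiftT p) := by
      simp only [cmpS14, force_eq, Nat.beq_eq] at h14
      exact h14
    have h1 := accN_eq w14 p 0
    rw [Nat.cast_zero] at h1
    rw [← h1, ← e, ZMod.natCast_mod]

theorem walk_lt : ∀ (w : List ℕ), (∀ x ∈ w, x < 12) → ∀ i, i < 306936 → walkT w i < 306936
  | [], _, _, hi => hi
  | x :: w, hw, i, hi => by
    rw [walkT_cons]
    exact walk_lt w (fun y hy => hw y (List.mem_cons_of_mem x hy)) _ (T_spec (hw x List.mem_cons_self) hi).1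

theorem c7_lt {p : ℕ} (hp : p < 306936) : c7 p < 306936 := by
  have h := congrArg Prod.fst (walk7 hp 0)
  rw [walkZ_fst] at h
  change walkT w7 p = c7 p at h
  rw [← h]
  exact walk_lt w7 (by decide) p hp

theorem c14_lt {p : ℕ} (hp : p < 306936) : c14 p < 306936 := by
  have h := congrArg Prod.fst (walk14 hp 0)
  rw [walkZ_fst] at h
  change walkT w14 p = c14 p at h
  rw [← h]
  exact walk_lt w14 (by decide) p hp

theorem run7_sound : ∀ (m p t : ℕ), p < 306936 → run7 m p t = true →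
    (walkZ (List.replicate m w7).flatten (p, (t : ZMod 3))).2 = 0
  | 0, _, _, _, h => by simpa [walkZ, run7] using cast_of_z3 h
  | m + 1, p, t, hp, h => by
    simp only [run7, force_eq] at h
    have h1 := run7_sound m (c7 p) _ (c7_lt hp) h
    rw [List.replicate_succ, List.flatten_cons, walkZ_append, walk7 hp]
    convert h1 using 4
    show _ = (((fld 12 (shiftT p) + 2 * t) % 3 : ℕ) : ZMod 3)
    rw [ZMod.natCast_mod]
    push_cast
    rw [two_eq]
    ring

theorem run14_sound : ∀ (m p t : ℕ), p < 306936 → run14 m p t = true →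
    (walkZ (List.replicate m w14).flatten (p, (t : ZMod 3))).2 = 1
  | 0, _, t, _, h => by
    have h1 : t % 3 = 1 := Nat.eq_of_beq_eq_true h
    show (t : ZMod 3) = 1
    rw [← ZMod.natCast_mod, h1, Nat.cast_one]
  | m + 1, p, t, hp, h => by
    simp only [run14, force_eq] at h
    have h1 := run14_sound m (c14 p) _ (c14_lt hp) h
    rw [List.replicate_succ, List.flatten_cons, walkZ_append, walk14 hp]
    convert h1 using 4
    show _ = ((t + fld 13 (shiftT p) : ℕ) : ZMod 3)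
    push_cast
    rfl

theorem long_shape : (decide (11 :: (List.replicate 9 w7).flatten ∈ Fi24.words) &&
    decide (spWord ∈ Fi24.words)) = true := by decide +kernel

/-- The relator of the long element holds. -/
theorem rel_long : prodw pe (11 :: (List.replicate 9 w7).flatten) = 1 := by
  have hs := long_shape
  simp only [Bool.and_eq_true, decide_eq_true_eq] at hs
  refine word_one_of_fix (by decide +kernel) fun i hi t => ?_
  refine Prod.ext ((walkZ_fst _ _).trans (walkT_word hs.1 hi)) ?_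
  have h := (spec i hi).2.2.2.2.2.2.2.2.2.2.2.2.2.2.2.2.2.2.2.2.2.2.2.2.2.2.2.2.2.2.2.2.2.2.2.2.2.2.2.2.2.2.2.2.2.2.2.2.2.2.2.2.2.2.2.2.2.2.2.2.2.2.2.2.2.2.2.2.2.2.2.2.2.2.2.2.2.2.2.2.1
  simp only [longS, force_eq] at h
  have h1 := run7_sound 9 (Fi24H.T 11 i) _ (T_spec (by norm_num) hi).1 h
  have e : ((Nat.mul 2 (fld 11 (shiftT i)) : ℕ) : ZMod 3) = -(0 + sh 11 i) := by
    show ((2 * fld 11 (shiftT i) : ℕ) : ZMod 3) = _
    push_cast
    rw [two_eq, sh]
    ring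
  rw [accN_shift, walkZ_cons, stp, ← e, h1,
    show (-1 : ZMod 3) ^ (11 :: (List.replicate 9 w7).flatten).length = 1 by decide +kernel]
  ring

/-- The last relator is a translation. -/
theorem spider_shift (p : Pt) : (prodw pe spWord)⁻¹ p = (p.1, p.2 + 1) := by
  have hs := long_shape
  simp only [Bool.and_eq_true, decide_eq_true_eq] at hs
  have hw : ∀ x ∈ spWord, x < 12 := by decide +kernel
  have h1 := pe_word spWord hw p
  have hi : (p.1 : ℕ) < 306936 := p.1.2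
  have h := (spec p.1 hi).2.2.2.2.2.2.2.2.2.2.2.2.2.2.2.2.2.2.2.2.2.2.2.2.2.2.2.2.2.2.2.2.2.2.2.2.2.2.2.2.2.2.2.2.2.2.2.2.2.2.2.2.2.2.2.2.2.2.2.2.2.2.2.2.2.2.2.2.2.2.2.2.2.2.2.2.2.2.2.2.2
  have h2 := run14_sound 17 p.1 0 hi h
  rw [Nat.cast_zero] at h2
  refine Prod.ext (Fin.ext ?_) ?_
  · exact (congrArg Prod.fst h1 :).trans ((walkZ_fst _ _).trans (walkT_word hs.2 hi))
  · refine (congrArg Prod.snd h1 :).trans ?_
    rw [accN_shift, show (walkZ spWord ((p.1 : ℕ), (0 : ZMod 3))).2 = 1 from h2,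
      show (-1 : ZMod 3) ^ spWord.length = 1 by decide +kernel]
    ring

end

end CfsgLib.Fi24Mult
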