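import Cfsg.Agent.CosetEnum.Engine
import Cfsg.Agent.CosetEnum.Upper
import Mathlib.Tactic.Group

/-!
A checker for coset certificates up to offsets in an abelian normal subgroup of rank two, on which
the letters act by exchanging the two generators.  Every established edge says that a representative
times a letter is an offset times an element of the subgroup times a representative.
-/

set_option autoImplicit false

namespace CfsgLib.Fi24Mult

open CfsgLib.CosetEnum

noncomputable section

/-- The two coordinates of an offset, exchanged when the flag is set. -/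
def tw (e : Bool) (t : ℤ × ℤ) : ℤ × ℤ := bif e then (t.2, t.1) else t

theorem tw_add (e : Bool) (s t : ℤ × ℤ) : tw e (s + t) = tw e s + tw e t := by cases e <;> rfl

theorem tw_neg (e : Bool) (t : ℤ × ℤ) : tw e (-t) = -tw e t := by cases e <;> rfl

theorem tw_xor (a b : Bool) (t : ℤ × ℤ) : tw (Bool.xor a b) t = tw a (tw b t) := by
  cases a <;> cases b <;> rfl

/-- The data of a certificate: nodes with parent, letter and parity, edges, the edge at a node and
letter, the relators and their values. -/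
structure Cert where
  k : ℕ
  m : ℕ
  node : ℕ → ℕ
  edge : ℕ → ℕ
  look : ℕ → ℕ
  sub : List ℕ
  wd : ℕ → List ℕ
  nR : ℕ
  val : ℕ → ℤ × ℤ

namespace Cert

variable (C : Cert)

/-- The parent of a node. -/
def nPar (a : ℕ) : ℕ := Nat.shiftRight (C.node a) 5

/-- The letter from the parent. -/
def nLet (a : ℕ) : ℕ := Nat.land (Nat.shiftRight (C.node a) 1) 15

/-- The parity of a node. -/
def nOdd (a : ℕ) : Bool := Nat.beq (Nat.land (C.node a) 1) 1

/-- The letter of an edge. -/
def eLet (v : ℕ) : ℕ := Nat.land v 15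

/-- The first end of an edge. -/
def eSrc (v : ℕ) : ℕ := Nat.land (Nat.shiftRight v 4) 32767

/-- The second end of an edge. -/
def eDst (v : ℕ) : ℕ := Nat.land (Nat.shiftRight v 19) 32767

/-- The offset of an edge. -/
def eOff (v : ℕ) : ℤ × ℤ :=
  (Int.ofNat (Nat.land (Nat.shiftRight v 34) 63) - 32, Int.ofNat (Nat.land (Nat.shiftRight v 40) 63) - 32)

/-- The rule of an edge: zero for the tree, one for the subgroup, else two more than the relator. -/
def eRule (v : ℕ) : ℕ := Nat.shiftRight v 46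

/-- The sign of the subgroup part of an edge. -/
def hOdd (a b : ℕ) : Bool := Bool.xor (C.nOdd a) (!C.nOdd b)

/-- A path through earlier edges, with its end, the sign of its subgroup part and its offset. -/
def path (L : ℕ) : List ℕ → ℕ → Bool → ℤ × ℤ → (ℕ → Bool → ℤ × ℤ → Bool) → Bool
  | [], a, e, t, fin => fin a e t
  | y :: w, a, e, t, fin =>
    force (C.look (Nat.add (Nat.mul a C.k) y)) fun l =>
    force (Nat.shiftRight l 1) fun q =>
    force (C.edge q) fun v =>
      Nat.blt q L && Nat.beq (eLet v) y &&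
      bif Nat.beq (Nat.land l 1) 0 then
        Nat.beq (eSrc v) a && force (eDst v) fun b =>
          path L w b (Bool.xor e (C.hOdd a b)) (t + tw e (eOff v)) fin
      else
        Nat.beq (eDst v) a && force (eSrc v) fun b =>
          path L w b (Bool.xor e (C.hOdd b a)) (t + tw e (tw (C.hOdd b a) (-eOff v))) fin

/-- The check of a node. -/
def nodeOK (a : ℕ) : Bool :=
  bif Nat.blt a C.m && Nat.blt 0 a then
    Nat.blt (C.nPar a) a && Nat.blt (C.nLet a) C.k && C.nOdd a == !C.nOdd (C.nPar a)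
  else true

/-- The check of an edge. -/
def edgeOK (L : ℕ) (M : ℕ) : Bool :=
  bif Nat.blt L M then
    force (C.edge L) fun v => force (eSrc v) fun i => force (eDst v) fun j => force (eLet v) fun x =>
    force (eRule v) fun r =>
      Nat.blt i C.m && Nat.blt j C.m && Nat.blt x C.k &&
      bif Nat.beq r 0 then Nat.blt i j && Nat.beq (C.nPar j) i && Nat.beq (C.nLet j) x && decide (eOff v = (0, 0))
      else bif Nat.beq r 1 then Nat.beq i 0 && Nat.beq j 0 && C.sub.contains x && decide (eOff v = (0, 0))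
      else Nat.blt (r - 2) C.nR &&
        match C.wd (r - 2) with
        | [] => false
        | y :: w => Nat.beq y x && C.path L w j false (0, 0) fun b e t =>
            Nat.beq b i && decide (eOff v = tw (C.nOdd i) (C.val (r - 2)) - tw e t)
  else true

/-- A closed path whose value differs from that of the relator by `c`. -/
def closeOK (L r i : ℕ) (c : ℤ × ℤ) : Bool :=
  Nat.blt i C.m && Nat.blt r C.nR &&
    C.path L (C.wd r) i false (0, 0) fun b _ t => Nat.beq b i && decide (t - tw (C.nOdd i) (C.val r) = c)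

end Cert

/-- A group with a subgroup and two commuting elements exchanged by the letters. -/
structure Setting (C : Cert) (Q : Type*) [Group Q] where
  X : ℕ → Q
  H : Subgroup Q
  za : Q
  zb : Q
  comm : Commute za zb
  odd : Q → Bool
  odd_mul : ∀ a b, odd (a * b) = Bool.xor (odd a) (odd b)
  odd_X : ∀ x, x < C.k → odd (X x) = true
  odd_za : odd za = false
  odd_zb : odd zb = false
  conj_za : ∀ g, g * za = (bif odd g then zb else za) * g
  conj_zb : ∀ g, g * zb = (bif odd g then za else zb) * g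
  sq : ∀ x, x < C.k → X x * X x = 1
  sub_mem : ∀ x ∈ C.sub, X x ∈ H
  inter : ∀ t : ℤ × ℤ, za ^ t.1 * zb ^ t.2 ∈ H → za ^ t.1 * zb ^ t.2 = 1
  rel : ∀ r, r < C.nR → prodw X (C.wd r) = za ^ (C.val r).1 * zb ^ (C.val r).2

namespace Setting

variable {C : Cert} {Q : Type*} [Group Q] (S : Setting C Q)

/-- An offset as an element. -/
def ζ (t : ℤ × ℤ) : Q := S.za ^ t.1 * S.zb ^ t.2

theorem ζ_zero : S.ζ (0, 0) = 1 := by simp [ζ]

theorem ζ_add (s t : ℤ × ℤ) : S.ζ (s + t) = S.ζ s * S.ζ t := by
  simp only [ζ, Prod.fst_add, Prod.snd_add, zpow_add, mul_assoc]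
  congr 1
  rw [← mul_assoc, ← mul_assoc ((S.zb) ^ s.2), (S.comm.zpow_zpow t.1 s.2).eq, mul_assoc]

theorem ζ_neg (t : ℤ × ℤ) : S.ζ (-t) = (S.ζ t)⁻¹ := by
  refine eq_inv_of_mul_eq_one_left ?_
  rw [← S.ζ_add, neg_add_cancel]
  exact S.ζ_zero

theorem conj (g : Q) (t : ℤ × ℤ) : g * S.ζ t = S.ζ (tw (S.odd g) t) * g := by
  have key : ∀ {p q : Q}, g * p = q * g → ∀ n : ℤ, g * p ^ n = q ^ n * g := by
    intro p q h n
    have h1 : SemiconjBy g p q := h
    exact (h1.zpow_right n).eq
  have ha := key (S.conj_za g) t.1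
  have hb := key (S.conj_zb g) t.2
  rw [ζ, ← mul_assoc, ha, mul_assoc, hb, ← mul_assoc]
  cases S.odd g
  · rfl
  · simp only [cond_true, ζ, tw]
    rw [(S.comm.zpow_zpow t.2 t.1).eq]

theorem odd_one : S.odd 1 = false := by
  have h := S.odd_mul 1 1
  rw [mul_one, Bool.xor_self] at h
  exact h

theorem odd_inv (g : Q) : S.odd g⁻¹ = S.odd g := by
  have h := S.odd_mul g g⁻¹
  rw [mul_inv_cancel, S.odd_one] at h
  revert h
  cases S.odd g <;> cases S.odd g⁻¹ <;> simp

theorem odd_zpow {p : Q} (hp : S.odd p = false) (n : ℤ) : S.odd (p ^ n) = false := by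
  induction n using Int.induction_on with
  | zero => rw [zpow_zero]; exact S.odd_one
  | succ i ih => rw [zpow_add_one, S.odd_mul, ih, hp]; rfl
  | pred i ih => rw [zpow_sub_one, S.odd_mul, ih, S.odd_inv, hp]; rfl

theorem odd_val (t : ℤ × ℤ) : S.odd (S.ζ t) = false := by
  rw [ζ, S.odd_mul, S.odd_zpow S.odd_za, S.odd_zpow S.odd_zb]; rfl

/-- The representative of a node. -/
def cr (S : Setting C Q) (a : ℕ) : Q :=
  if _h : C.nPar a < a then cr S (C.nPar a) * S.X (C.nLet a) else 1
termination_by a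

theorem cr_zero : S.cr 0 = 1 := by rw [cr, dif_neg (Nat.not_lt_zero _)]

theorem cr_step {a : ℕ} (h : C.nPar a < a) : S.cr a = S.cr (C.nPar a) * S.X (C.nLet a) := by
  rw [cr, dif_pos h]

theorem odd_cr (hn : ∀ a, a < C.m → C.nodeOK a = true) (h0 : C.nOdd 0 = false) :
    ∀ a, a < C.m → S.odd (S.cr a) = C.nOdd a := by
  intro a
  induction a using Nat.strong_induction_on with
  | _ a ih =>
    intro ha
    rcases Nat.eq_zero_or_pos a with rfl | hp
    · rw [cr_zero, S.odd_one, h0]
    · have h := hn a ha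
      unfold Cert.nodeOK at h
      rw [show (Nat.blt a C.m && Nat.blt 0 a) = true by simp [ha, hp]] at h
      simp only [cond_true, Bool.and_eq_true, Nat.blt_eq, beq_iff_eq] at h
      rw [S.cr_step h.1.1, S.odd_mul, ih _ h.1.1 (by omega), S.odd_X _ h.1.2, h.2, Bool.xor_true]

/-- The established meaning of an edge. -/
def Holds (v : ℕ) : Prop :=
  Cert.eSrc v < C.m ∧ Cert.eDst v < C.m ∧ Cert.eLet v < C.k ∧
    ∃ h ∈ S.H, S.odd h = C.hOdd (Cert.eSrc v) (Cert.eDst v) ∧
      S.cr (Cert.eSrc v) * S.X (Cert.eLet v) = S.ζ (Cert.eOff v) * h * S.cr (Cert.eDst v)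

theorem path_sound {L : ℕ} (hL : ∀ q, q < L → S.Holds (C.edge q))
    (fin : ℕ → Bool → ℤ × ℤ → Bool) :
    ∀ (w : List ℕ) (a : ℕ) (e : Bool) (t : ℤ × ℤ) (g h : Q), a < C.m → h ∈ S.H → S.odd h = e →
      g = S.ζ t * h * S.cr a → C.path L w a e t fin = true →
      ∃ b e' t' h', b < C.m ∧ h' ∈ S.H ∧ S.odd h' = e' ∧
        g * prodw S.X w = S.ζ t' * h' * S.cr b ∧ fin b e' t' = true := by
  intro w
  induction w with
  | nil => intro a e t g h ha hh he hg hp; exact ⟨a, e, t, h, ha, hh, he, by simpa [prodw] using hg, hp⟩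
  | cons y w ih =>
    intro a e t g h ha hh he hg hp
    rw [Cert.path] at hp
    simp only [force_eq, Bool.and_eq_true, Nat.blt_eq] at hp
    obtain ⟨⟨hq, hy⟩, hp⟩ := hp
    obtain ⟨hs, hd, hk, h₁, hh₁, he₁, heq⟩ := hL _ hq
    obtain ⟨v, hv⟩ : ∃ v, v = C.edge (Nat.shiftRight (C.look (Nat.add (Nat.mul a C.k) y)) 1) := ⟨_, rfl⟩
    rw [← hv] at hs hd hk he₁ heq hp hy
    have hy' := Nat.eq_of_beq_eq_true hy
    rw [hy'] at heq hk
    rw [prodw_cons, ← mul_assoc]
    cases hb : Nat.beq (Nat.land (C.look (Nat.add (Nat.mul a C.k) y)) 1) 0 <;> rw [hb] at hp <;>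
      simp only [cond_true, cond_false, Bool.and_eq_true] at hp
    · obtain rfl := Nat.eq_of_beq_eq_true hp.1
      refine ih _ _ _ _ (h * h₁⁻¹) hs (mul_mem hh (inv_mem hh₁)) ?_ ?_ hp.2
      · rw [S.odd_mul, he, S.odd_inv, he₁]
      · have h2 : S.cr (Cert.eSrc v) = S.ζ (Cert.eOff v) * h₁ * S.cr (Cert.eDst v) * S.X y := by
          rw [← heq, mul_assoc, S.sq _ hk, mul_one]
        have h3 : S.cr (Cert.eDst v) * S.X y = h₁⁻¹ * (S.ζ (Cert.eOff v))⁻¹ * S.cr (Cert.eSrc v) := by
          rw [h2]; group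
        rw [hg, mul_assoc, h3, ← S.ζ_neg, S.conj, S.odd_inv, he₁, S.ζ_add, ← he]
        simp only [mul_assoc]
        rw [← mul_assoc h, S.conj h]
        simp only [mul_assoc]
    · obtain rfl := Nat.eq_of_beq_eq_true hp.1
      refine ih _ _ _ _ (h * h₁) hd (mul_mem hh hh₁) ?_ ?_ hp.2
      · rw [S.odd_mul, he, he₁]
      · rw [hg, mul_assoc, heq, S.ζ_add, ← he]
        simp only [mul_assoc]
        rw [← mul_assoc h, S.conj h]
        simp only [mul_assoc]

theorem edges_hold {M : ℕ} (hn : ∀ a, a < C.m → C.nodeOK a = true) (h0 : C.nOdd 0 = false)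
    (he : ∀ L, L < M → C.edgeOK L M = true) : ∀ L, L < M → S.Holds (C.edge L) := by
  intro L
  induction L using Nat.strong_induction_on with
  | _ L ih =>
    intro hL
    have h := he L hL
    unfold Cert.edgeOK at h
    rw [show Nat.blt L M = true by simpa using hL] at h
    simp only [cond_true, force_eq, Bool.and_eq_true, Nat.blt_eq] at h
    generalize C.edge L = v at h
    obtain ⟨⟨⟨hi, hj⟩, hx⟩, h⟩ := h
    refine ⟨hi, hj, hx, ?_⟩
    cases h1 : Nat.beq (Cert.eRule v) 0
    · rw [h1] at h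
      simp only [cond_false] at h
      cases h2 : Nat.beq (Cert.eRule v) 1
      · rw [h2] at h
        simp only [cond_false, Bool.and_eq_true, Nat.blt_eq] at h
        obtain ⟨hr, h⟩ := h
        have hrel := S.rel _ hr
        generalize C.wd (Cert.eRule v - 2) = wl at h hrel
        cases wl with
        | nil => simp at h
        | cons y w =>
          simp only [Bool.and_eq_true] at h
          obtain rfl := Nat.eq_of_beq_eq_true h.1
          obtain ⟨b, e, t, h₂, -, hh₂, he₂, hW, hfin⟩ := S.path_sound (fun q hq => ih q hq (hq.trans hL))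
            _ w _ false (0, 0) (S.cr (Cert.eDst v)) 1 hj S.H.one_mem S.odd_one
            (by rw [S.ζ_zero, one_mul, one_mul]) h.2
          simp only [Bool.and_eq_true, decide_eq_true_eq] at hfin
          obtain rfl := Nat.eq_of_beq_eq_true hfin.1
          refine ⟨h₂⁻¹, inv_mem hh₂, ?_, ?_⟩
          · have := congrArg S.odd hW
            have hwodd : S.odd (prodw S.X (Cert.eLet v :: w)) = false := by
              rw [hrel]
              exact S.odd_val _
            rw [S.odd_mul, S.odd_mul, S.odd_mul, S.odd_cr hn h0 _ hj, S.odd_cr hn h0 _ hi] at this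
            rw [prodw_cons, S.odd_mul, S.odd_X _ hx] at hwodd
            rw [show S.odd (S.ζ t) = false from S.odd_val t] at this
            rw [S.odd_inv, Cert.hOdd]
            revert this hwodd
            cases S.odd (prodw S.X w) <;> cases S.odd h₂ <;> cases C.nOdd (Cert.eSrc v) <;>
              cases C.nOdd (Cert.eDst v) <;> simp
          · have hx' : S.X (Cert.eLet v) = S.ζ (C.val (Cert.eRule v - 2)) * (prodw S.X w)⁻¹ := by
              rw [ζ, ← hrel, prodw_cons, mul_inv_cancel_right]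
            have hW' : (prodw S.X w)⁻¹ =
                (S.cr (Cert.eSrc v))⁻¹ * h₂⁻¹ * (S.ζ t)⁻¹ * S.cr (Cert.eDst v) := by
              have h5 : prodw S.X w = (S.cr (Cert.eDst v))⁻¹ * (S.ζ t * h₂ * S.cr (Cert.eSrc v)) := by
                rw [← hW]; group
              rw [h5]; group
            rw [hx', hW', ← mul_assoc, S.conj, S.odd_cr hn h0 _ hi, hfin.2, sub_eq_add_neg, S.ζ_add,
              ← S.ζ_neg, ← tw_neg]
            simp only [mul_assoc, mul_inv_cancel_left]
            rw [← mul_assoc h₂⁻¹, S.conj h₂⁻¹, S.odd_inv, he₂]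
            simp only [mul_assoc]
      · rw [h2] at h
        simp only [cond_true, Bool.and_eq_true, decide_eq_true_eq, List.contains_eq_mem] at h
        obtain ⟨⟨⟨hi0, hj0⟩, hs⟩, ho⟩ := h
        refine ⟨S.X (Cert.eLet v), S.sub_mem _ hs, ?_, ?_⟩
        · rw [S.odd_X _ hx, Cert.hOdd, Nat.eq_of_beq_eq_true hi0, Nat.eq_of_beq_eq_true hj0]
          cases C.nOdd 0 <;> rfl
        · rw [Nat.eq_of_beq_eq_true hi0, Nat.eq_of_beq_eq_true hj0, ho, S.ζ_zero, cr_zero]
          simp
    · rw [h1] at h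
      simp only [cond_true, Bool.and_eq_true, Nat.blt_eq, decide_eq_true_eq] at h
      obtain ⟨⟨⟨hlt, hp⟩, hl⟩, ho⟩ := h
      have hp' := Nat.eq_of_beq_eq_true hp
      have hl' := Nat.eq_of_beq_eq_true hl
      refine ⟨1, S.H.one_mem, ?_, ?_⟩
      · rw [S.odd_one, Cert.hOdd, ← S.odd_cr hn h0 _ hj, S.cr_step (hp' ▸ hlt), hp', hl', S.odd_mul,
          S.odd_cr hn h0 _ hi, S.odd_X _ hx]
        cases C.nOdd (Cert.eSrc v) <;> rfl
      · rw [ho, S.ζ_zero, one_mul, one_mul, S.cr_step (a := Cert.eDst v) (hp' ▸ hlt), hp', hl']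

/-- A closed path kills the difference of its offset and the value of its relator. -/
theorem close_eq {L r i : ℕ} {c : ℤ × ℤ} (hn : ∀ a, a < C.m → C.nodeOK a = true) (h0 : C.nOdd 0 = false)
    (hE : ∀ q, q < L → S.Holds (C.edge q)) (hc : C.closeOK L r i c = true) : S.ζ c = 1 := by
  simp only [Cert.closeOK, Bool.and_eq_true, Nat.blt_eq] at hc
  obtain ⟨⟨hi, hr⟩, hp⟩ := hc
  obtain ⟨b, e, t, h, -, hh, -, hW, hfin⟩ := S.path_sound hE _ (C.wd r) i false (0, 0) (S.cr i) 1 hi
    S.H.one_mem S.odd_one (by rw [S.ζ_zero, one_mul, one_mul]) hp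
  simp only [Bool.and_eq_true, decide_eq_true_eq] at hfin
  obtain rfl := Nat.eq_of_beq_eq_true hfin.1
  rw [S.rel r hr] at hW
  change S.cr b * S.ζ (C.val r) = S.ζ t * h * S.cr b at hW
  rw [S.conj, S.odd_cr hn h0 _ hi] at hW
  have h2 : h = S.ζ (tw (C.nOdd b) (C.val r) - t) := by
    have := mul_right_cancel hW
    rw [sub_eq_add_neg, add_comm, S.ζ_add, S.ζ_neg, this, inv_mul_cancel_left]
  have h3 : S.ζ (tw (C.nOdd b) (C.val r) - t) = 1 := S.inter _ (show S.ζ _ ∈ S.H from h2 ▸ hh)
  rw [← hfin.2, ← neg_sub, S.ζ_neg, h3, inv_one]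

end Setting

end

end CfsgLib.Fi24Mult
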