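import Cfsg.Agent.CosetEnum.Fi24.Transposition
import Cfsg.Agent.Fi23Mult.Identities

/-!
In a central extension of `Fi₂₄′` the even centraliser of each transposition has a canonical lift,
as the Schur multiplier of `Fi₂₃` is trivial.
-/

set_option autoImplicit false
set_option maxRecDepth 100000
set_option linter.style.haveILetI false

namespace CfsgLib.Fi24Mult

open CfsgLib.CosetEnum
open CfsgLib.CosetEnum.Fi24H (H hLetters)

noncomputable section

local notation "G" => Fi24.setup.Grp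

/-- A letter. -/
abbrev lt (x : ℕ) : G := Fi24.setup.g x

/-- An even element commuting with a letter. -/
def Ev (t : ℕ) (u : G) : Prop := u ∈ commutator G ∧ u * lt t = lt t * u

theorem lt_sq (x : ℕ) : lt x * lt x = 1 := Fi24.sq_g x

theorem lt_inv (x : ℕ) : (lt x)⁻¹ = lt x := Fi24.inv_g x

/-- The two letters commute, read from the relators. -/
def comB (a b : ℕ) : Bool :=
  Nat.beq a b || Fi24.words.contains [a, b, a, b] || Fi24.words.contains [b, a, b, a]

theorem comB_spec {a b : ℕ} (h : comB a b = true) : lt a * lt b = lt b * lt a := by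
  simp only [comB, Bool.or_eq_true, Nat.beq_eq, List.contains_eq_mem, decide_eq_true_eq] at h
  rcases h with (rfl | h) | h
  · rfl
  · exact Fi24.commute_g a b h
  · exact (Fi24.commute_g b a h).symm

theorem even_pair {x y : ℕ} (hx : x < 12) (hy : y < 12) : lt x * lt y ∈ commutator G := by
  obtain ⟨ε, hε⟩ := Fi24.exists_sign
  rw [Fi24.commutator_eq hε, MonoidHom.mem_ker, map_mul, hε x hx, hε y hy]
  decide

theorem Ev.mul {t : ℕ} {u v : G} (hu : Ev t u) (hv : Ev t v) : Ev t (u * v) :=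
  ⟨mul_mem hu.1 hv.1, by rw [mul_assoc, hv.2, ← mul_assoc, hu.2, mul_assoc]⟩

theorem Ev.one (t : ℕ) : Ev t 1 := ⟨one_mem _, by rw [one_mul, mul_one]⟩

theorem Ev.inv {t : ℕ} {u : G} (hu : Ev t u) : Ev t u⁻¹ :=
  ⟨inv_mem hu.1, by rw [eq_comm, eq_inv_mul_iff_mul_eq, ← mul_assoc, hu.2, mul_inv_cancel_right]⟩

theorem Ev.pair {t x y : ℕ} (hx : x < 12) (hy : y < 12) (hxt : comB x t = true) (hyt : comB y t = true) :
    Ev t (lt x * lt y) :=
  ⟨even_pair hx hy, by
    rw [mul_assoc, comB_spec hyt, ← mul_assoc, comB_spec hxt, mul_assoc]⟩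

/-- The even centraliser of a letter. -/
def K (t : ℕ) : Subgroup G where
  carrier := {u | Ev t u}
  mul_mem' := Ev.mul
  one_mem' := Ev.one t
  inv_mem' := Ev.inv

theorem mem_class (t : ℕ) (ht : t < 12) : ∃ c : G, lt t = c * lt 11 * c⁻¹ := by
  have conj_step : ∀ p q : ℕ, [p, q, p, q, p, q] ∈ Fi24.words → ∀ c : G, lt q = c * lt 11 * c⁻¹ →
      ∃ d : G, lt p = d * lt 11 * d⁻¹ := by
    intro p q h c hc
    refine ⟨(lt p * lt q)⁻¹ * c, ?_⟩
    have h1 : (lt p * lt q) * lt p * (lt p * lt q)⁻¹ = lt q := Fi24.conj_eq p q h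
    rw [show (lt p * lt q)⁻¹ * c * lt 11 * ((lt p * lt q)⁻¹ * c)⁻¹ =
      (lt p * lt q)⁻¹ * (c * lt 11 * c⁻¹) * (lt p * lt q) by group, ← hc]
    have h2 := congrArg (fun w : G => (lt p * lt q)⁻¹ * w * (lt p * lt q)) h1
    simpa [mul_assoc] using h2
  have conj_step' : ∀ p q : ℕ, [p, q, p, q, p, q] ∈ Fi24.words → ∀ c : G, lt p = c * lt 11 * c⁻¹ →
      ∃ d : G, lt q = d * lt 11 * d⁻¹ := by
    intro p q h c hc
    refine ⟨lt p * lt q * c, ?_⟩
    have h1 : (lt p * lt q) * lt p * (lt p * lt q)⁻¹ = lt q := Fi24.conj_eq p q h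
    rw [show lt p * lt q * c * lt 11 * (lt p * lt q * c)⁻¹ =
      (lt p * lt q) * (c * lt 11 * c⁻¹) * (lt p * lt q)⁻¹ by group, ← hc, h1]
  obtain ⟨c10, h10⟩ := conj_step 10 11 (by decide +kernel) 1 (by group)
  obtain ⟨c0, h0⟩ := conj_step 0 10 (by decide +kernel) c10 h10
  obtain ⟨c1, h1⟩ := conj_step' 0 1 (by decide +kernel) c0 h0
  obtain ⟨c2, h2⟩ := conj_step' 1 2 (by decide +kernel) c1 h1
  obtain ⟨c3, h3⟩ := conj_step' 2 3 (by decide +kernel) c2 h2
  obtain ⟨c4, h4⟩ := conj_step' 3 4 (by decide +kernel) c3 h3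
  obtain ⟨c5, h5⟩ := conj_step' 4 5 (by decide +kernel) c4 h4
  obtain ⟨c6, h6⟩ := conj_step' 5 6 (by decide +kernel) c5 h5
  obtain ⟨c7, h7⟩ := conj_step' 3 7 (by decide +kernel) c3 h3
  obtain ⟨c8, h8⟩ := conj_step' 7 8 (by decide +kernel) c7 h7
  obtain ⟨c9, h9⟩ := conj_step' 6 9 (by decide +kernel) c6 h6
  interval_cases t
  exacts [⟨_, h0⟩, ⟨_, h1⟩, ⟨_, h2⟩, ⟨_, h3⟩, ⟨_, h4⟩, ⟨_, h5⟩, ⟨_, h6⟩, ⟨_, h7⟩, ⟨_, h8⟩, ⟨_, h9⟩,
    ⟨_, h10⟩, ⟨1, by group⟩]

theorem K_iso (t : ℕ) (ht : t < 12) : Nonempty (Cfsg.Spor.Fi23 ≃* K t) := by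
  obtain ⟨iso⟩ := Fi24.stabilizer_iso
  obtain ⟨c, hc⟩ := mem_class t ht
  have hmap : ((H.subgroupOf (commutator G)).map (commutator G).subtype).map (MulAut.conj c).toMonoidHom = K t := by
    rw [Subgroup.subgroupOf_map_subtype, ← Fi24.centralizer_eq]
    ext y
    simp only [Subgroup.mem_map, Subgroup.mem_inf, Subgroup.mem_centralizer_singleton_iff,
      MulEquiv.coe_toMonoidHom]
    constructor
    · rintro ⟨u, ⟨h1, h2⟩, rfl⟩
      refine ⟨(inferInstance : (commutator G).Normal).conj_mem u h2 c, ?_⟩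
      show c * u * c⁻¹ * lt t = lt t * (c * u * c⁻¹)
      rw [hc, show c * u * c⁻¹ * (c * lt 11 * c⁻¹) = c * (u * lt 11) * c⁻¹ by group, h1]
      group
    · intro hy
      refine ⟨c⁻¹ * y * c, ⟨?_, ?_⟩, by simp [mul_assoc]⟩
      · calc c⁻¹ * y * c * lt 11 = c⁻¹ * (y * (c * lt 11 * c⁻¹)) * c := by group
          _ = c⁻¹ * (y * lt t) * c := by rw [hc]
          _ = c⁻¹ * (lt t * y) * c := by rw [hy.2]
          _ = c⁻¹ * (c * lt 11 * c⁻¹ * y) * c := by rw [hc]
          _ = lt 11 * (c⁻¹ * y * c) := by group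
      · simpa [mul_assoc] using (inferInstance : (commutator G).Normal).conj_mem y hy.1 c⁻¹
  rw [← hmap]
  exact ⟨(iso.trans (Subgroup.equivMapOfInjective _ _ (commutator G).subtype_injective)).trans
    (Subgroup.equivMapOfInjective _ (MulAut.conj c).toMonoidHom (MulAut.conj c).injective)⟩

/-- A central extension of `Fi₂₄′`. -/
structure Ext (Γ : Type) [Group Γ] where
  σ : Γ →* Cfsg.Spor.Fi24'
  surj : Function.Surjective σ
  central : σ.ker ≤ Subgroup.center Γ

variable {Γ : Type} [Group Γ] (X : Ext Γ)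

/-- The image in the presented group. -/
def Ext.down : Γ →* G := (commutator G).subtype.comp X.σ

theorem Ext.central' {a : Γ} (h : X.down a = 1) (b : Γ) : b * a = a * b :=
  Subgroup.mem_center_iff.1 (X.central (MonoidHom.mem_ker.2 (Subtype.ext h))) b

theorem Ext.exists_sec (t : ℕ) (ht : t < 12) : ∃ s : G → Γ,
    (∀ u, Ev t u → X.down (s u) = u) ∧ ∀ u v, Ev t u → Ev t v → s (u * v) = s u * s v := by
  classical
  obtain ⟨iso⟩ := K_iso t ht
  haveI : Finite Cfsg.Spor.Fi23 := Fi23.finite_grp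
  have hle : K t ≤ commutator G := fun u hu => hu.1
  let P : Subgroup Γ := (K t).comap X.down
  let p : P →* Cfsg.Spor.Fi23 :=
    iso.symm.toMonoidHom.comp ((X.down.comp P.subtype).codRestrict (K t) fun a => a.2)
  have hp : Function.Surjective p := by
    intro y
    obtain ⟨a, ha⟩ := X.surj ⟨(iso y : G), hle (iso y).2⟩
    have hd : X.down a = (iso y : G) := congrArg Subtype.val ha
    refine ⟨⟨a, show X.down a ∈ K t from hd ▸ (iso y).2⟩, ?_⟩
    show iso.symm _ = y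
    rw [MulEquiv.symm_apply_eq]
    exact Subtype.ext hd
  have hker : p.ker ≤ Subgroup.center P := by
    intro a ha
    rw [Subgroup.mem_center_iff]
    intro b
    refine Subtype.ext (X.central' ?_ b)
    have h1 : iso.symm _ = 1 := MonoidHom.mem_ker.1 ha
    rw [MulEquiv.symm_apply_eq, map_one] at h1
    exact congrArg Subtype.val h1
  obtain ⟨ρ, hρ⟩ := Fi23Mult.exists_section p hker hp Fi23Mult.groupFacts
  let r : K t →* Γ := P.subtype.comp (ρ.comp iso.symm.toMonoidHom)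
  refine ⟨fun u => if h : Ev t u then r ⟨u, h⟩ else 1, fun u hu => ?_, fun u v hu hv => ?_⟩
  · show X.down (if h : Ev t u then r ⟨u, h⟩ else 1) = u
    rw [dif_pos hu]
    have h1 : iso.symm _ = iso.symm ⟨u, hu⟩ := DFunLike.congr_fun hρ (iso.symm ⟨u, hu⟩)
    exact congrArg Subtype.val (iso.symm.injective h1)
  · show (if h : Ev t (u * v) then r ⟨u * v, h⟩ else 1) =
      (if h : Ev t u then r ⟨u, h⟩ else 1) * (if h : Ev t v then r ⟨v, h⟩ else 1)
    rw [dif_pos hu, dif_pos hv, dif_pos (hu.mul hv), ← map_mul]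
    rfl

/-- The canonical lift of the even centraliser of a letter. -/
def Ext.sec (t : ℕ) : G → Γ :=
  if ht : t < 12 then Classical.choose (X.exists_sec t ht) else fun _ => 1

theorem Ext.sec_spec {t : ℕ} (ht : t < 12) {u : G} (hu : Ev t u) : X.down (X.sec t u) = u := by
  rw [Ext.sec, dif_pos ht]
  exact (Classical.choose_spec (X.exists_sec t ht)).1 u hu

theorem Ext.sec_mul {t : ℕ} (ht : t < 12) {u v : G} (hu : Ev t u) (hv : Ev t v) :
    X.sec t (u * v) = X.sec t u * X.sec t v := by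
  rw [Ext.sec, dif_pos ht]
  exact (Classical.choose_spec (X.exists_sec t ht)).2 u v hu hv

theorem Ext.sec_one {t : ℕ} (ht : t < 12) : X.sec t 1 = 1 := by
  have h := X.sec_mul ht (Ev.one t) (Ev.one t)
  rw [one_mul] at h
  exact left_eq_mul.mp h

theorem Ext.sec_inv {t : ℕ} (ht : t < 12) {u : G} (hu : Ev t u) : X.sec t u⁻¹ = (X.sec t u)⁻¹ := by
  refine eq_inv_of_mul_eq_one_left ?_
  rw [← X.sec_mul ht hu.inv hu, inv_mul_cancel, X.sec_one ht]

/-- The canonical lifts of two commuting letters agree on a product of two adjacent letters. -/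
theorem Ext.sec_agree {t s x y : ℕ} (ht : t < 12) (hs : s < 12) (hx : x < 12) (hy : y < 12)
    (hts : comB t s = true) (hxt : comB x t = true) (hyt : comB y t = true) (hxs : comB x s = true)
    (hys : comB y s = true) (h6 : lt x * (lt y * (lt x * (lt y * (lt x * lt y)))) = 1) :
    X.sec t (lt x * lt y) = X.sec s (lt x * lt y) := by
  have htt : comB t t = true := by simp [comB]
  set u := lt x * lt t
  set v := lt y * lt t
  have hu : Ev t u := Ev.pair hx ht hxt htt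
  have hv : Ev t v := Ev.pair hy ht hyt htt
  have hu' : Ev s u := Ev.pair hx ht hxs hts
  have hv' : Ev s v := Ev.pair hy ht hys hts
  have cx := comB_spec hxt
  have cy := comB_spec hyt
  have hq : u * v * u⁻¹ * v⁻¹ = (lt x * lt y) * (lt x * lt y) := by
    simp only [u, v, mul_inv_rev, lt_inv]
    calc lt x * lt t * (lt y * lt t) * (lt t * lt x) * (lt t * lt y)
        = lt x * (lt t * lt y) * (lt t * lt t) * lt x * (lt t * lt y) := by simp only [mul_assoc]
      _ = lt x * (lt y * lt t) * lt x * (lt t * lt y) := by rw [lt_sq, mul_one, ← cy]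
      _ = lt x * lt y * (lt t * lt x) * lt t * lt y := by simp only [mul_assoc]
      _ = lt x * lt y * (lt x * lt t) * lt t * lt y := by rw [← cx]
      _ = lt x * lt y * lt x * (lt t * lt t) * lt y := by simp only [mul_assoc]
      _ = _ := by rw [lt_sq, mul_one, mul_assoc (lt x * lt y)]
  have hsplit : ∀ {w : G}, Ev t w → Ev s w → ∀ b, b * (X.sec t w * (X.sec s w)⁻¹) =
      (X.sec t w * (X.sec s w)⁻¹) * b := fun hw hw' b => X.central' (by
    rw [map_mul, map_inv, X.sec_spec ht hw, X.sec_spec hs hw', mul_inv_cancel]) b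
  have h2 : X.sec t ((lt x * lt y) * (lt x * lt y)) = X.sec s ((lt x * lt y) * (lt x * lt y)) := by
    rw [← hq, X.sec_mul ht ((hu.mul hv).mul hu.inv) hv.inv, X.sec_mul ht (hu.mul hv) hu.inv,
      X.sec_mul ht hu hv, X.sec_inv ht hu, X.sec_inv ht hv,
      X.sec_mul hs ((hu'.mul hv').mul hu'.inv) hv'.inv, X.sec_mul hs (hu'.mul hv') hu'.inv,
      X.sec_mul hs hu' hv', X.sec_inv hs hu', X.sec_inv hs hv']
    have ea := hsplit hu hu'
    have eb := hsplit hv hv'
    generalize X.sec t u = a, X.sec t v = b, X.sec s u = a', X.sec s v = b' at ea eb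
    obtain ⟨m, rfl⟩ : ∃ m, a = m * a' := ⟨a * a'⁻¹, by group⟩
    obtain ⟨n, rfl⟩ : ∃ n, b = n * b' := ⟨b * b'⁻¹, by group⟩
    simp only [mul_inv_cancel_right] at ea eb
    calc m * a' * (n * b') * (m * a')⁻¹ * (n * b')⁻¹
        = m * (a' * n) * b' * a'⁻¹ * (m⁻¹ * b'⁻¹) * n⁻¹ := by group
      _ = m * (n * a') * b' * a'⁻¹ * (b'⁻¹ * m⁻¹) * n⁻¹ := by
          rw [eb a', show m⁻¹ * b'⁻¹ = b'⁻¹ * m⁻¹ from (Commute.inv_inv (ea b').symm).eq]
      _ = m * n * (a' * b' * a'⁻¹ * b'⁻¹) * (m⁻¹ * n⁻¹) := by group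
      _ = (a' * b' * a'⁻¹ * b'⁻¹) * (m * n) * (m⁻¹ * n⁻¹) := by
          rw [show m * n * (a' * b' * a'⁻¹ * b'⁻¹) = (a' * b' * a'⁻¹ * b'⁻¹) * (m * n) by
            rw [← mul_assoc (a' * b' * a'⁻¹ * b'⁻¹) m n, ea, mul_assoc m, mul_assoc m _ n, eb]]
      _ = (a' * b' * a'⁻¹ * b'⁻¹) * (n * m) * (m⁻¹ * n⁻¹) := by rw [eb m]
      _ = a' * b' * a'⁻¹ * b'⁻¹ := by group
  have hxy : Ev t (lt x * lt y) := Ev.pair hx hy hxt hyt
  have hxy' : Ev s (lt x * lt y) := Ev.pair hx hy hxs hys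
  have e : lt x * lt y = (lt x * lt y) * (lt x * lt y) * ((lt x * lt y) * (lt x * lt y)) := by
    conv_lhs => rw [← mul_one (lt x * lt y), ← h6]
    simp only [mul_assoc]
  rw [e, X.sec_mul ht (hxy.mul hxy) (hxy.mul hxy), X.sec_mul hs (hxy'.mul hxy') (hxy'.mul hxy'), h2]

end

end CfsgLib.Fi24Mult
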