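import Cfsg.Agent.Fi24Mult.ShiftCheck

set_option autoImplicit false
set_option maxRecDepth 100000
set_option Elab.async false

/-! The shift checks, part 0 (generated certificate). -/

namespace CfsgLib.Fi24Mult

open CfsgLib.CosetEnum

theorem shift0 : allR shiftOK 11 0 = true := by decide +kernel

theorem shift1 : allR shiftOK 11 2048 = true := by decide +kernel

theorem shift2 : allR shiftOK 11 4096 = true := by decide +kernel

theorem shift3 : allR shiftOK 11 6144 = true := by decide +kernel

theorem shift4 : allR shiftOK 11 8192 = true := by decide +kernel

theorem shift5 : allR shiftOK 11 10240 = true := by decide +kernel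

theorem shift6 : allR shiftOK 11 12288 = true := by decide +kernel

theorem shift7 : allR shiftOK 11 14336 = true := by decide +kernel

theorem shift8 : allR shiftOK 11 16384 = true := by decide +kernel

theorem shift9 : allR shiftOK 11 18432 = true := by decide +kernel

end CfsgLib.Fi24Mult
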