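import Cfsg.Agent.Fi24Mult.ShiftCheck

set_option autoImplicit false
set_option maxRecDepth 100000
set_option Elab.async false

/-! The shift checks, part 1 (generated certificate). -/

namespace CfsgLib.Fi24Mult

open CfsgLib.CosetEnum

theorem shift10 : allR shiftOK 11 20480 = true := by decide +kernel

theorem shift11 : allR shiftOK 11 22528 = true := by decide +kernel

theorem shift12 : allR shiftOK 11 24576 = true := by decide +kernel

theorem shift13 : allR shiftOK 11 26624 = true := by decide +kernel

theorem shift14 : allR shiftOK 11 28672 = true := by decide +kernel

theorem shift15 : allR shiftOK 11 30720 = true := by decide +kernel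

theorem shift16 : allR shiftOK 11 32768 = true := by decide +kernel

theorem shift17 : allR shiftOK 11 34816 = true := by decide +kernel

theorem shift18 : allR shiftOK 11 36864 = true := by decide +kernel

theorem shift19 : allR shiftOK 11 38912 = true := by decide +kernel

end CfsgLib.Fi24Mult
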