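import Cfsg.Agent.Fi24Mult.ShiftCheck

set_option autoImplicit false
set_option maxRecDepth 100000
set_option Elab.async false

/-! The shift checks, part 10 (generated certificate). -/

namespace CfsgLib.Fi24Mult

open CfsgLib.CosetEnum

theorem shift100 : allR shiftOK 11 204800 = true := by decide +kernel

theorem shift101 : allR shiftOK 11 206848 = true := by decide +kernel

theorem shift102 : allR shiftOK 11 208896 = true := by decide +kernel

theorem shift103 : allR shiftOK 11 210944 = true := by decide +kernel

theorem shift104 : allR shiftOK 11 212992 = true := by decide +kernel

theorem shift105 : allR shiftOK 11 215040 = true := by decide +kernel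

theorem shift106 : allR shiftOK 11 217088 = true := by decide +kernel

theorem shift107 : allR shiftOK 11 219136 = true := by decide +kernel

theorem shift108 : allR shiftOK 11 221184 = true := by decide +kernel

theorem shift109 : allR shiftOK 11 223232 = true := by decide +kernel

end CfsgLib.Fi24Mult
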