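import Cfsg.Agent.Fi24Mult.ShiftCheck

set_option autoImplicit false
set_option maxRecDepth 100000
set_option Elab.async false

/-! The shift checks, part 11 (generated certificate). -/

namespace CfsgLib.Fi24Mult

open CfsgLib.CosetEnum

theorem shift110 : allR shiftOK 11 225280 = true := by decide +kernel

theorem shift111 : allR shiftOK 11 227328 = true := by decide +kernel

theorem shift112 : allR shiftOK 11 229376 = true := by decide +kernel

theorem shift113 : allR shiftOK 11 231424 = true := by decide +kernel

theorem shift114 : allR shiftOK 11 233472 = true := by decide +kernel

theorem shift115 : allR shiftOK 11 235520 = true := by decide +kernel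

theorem shift116 : allR shiftOK 11 237568 = true := by decide +kernel

theorem shift117 : allR shiftOK 11 239616 = true := by decide +kernel

theorem shift118 : allR shiftOK 11 241664 = true := by decide +kernel

theorem shift119 : allR shiftOK 11 243712 = true := by decide +kernel

end CfsgLib.Fi24Mult
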