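import Cfsg.Agent.Fi24Mult.ShiftCheck

set_option autoImplicit false
set_option maxRecDepth 100000
set_option Elab.async false

/-! The shift checks, part 12 (generated certificate). -/

namespace CfsgLib.Fi24Mult

open CfsgLib.CosetEnum

theorem shift120 : allR shiftOK 11 245760 = true := by decide +kernel

theorem shift121 : allR shiftOK 11 247808 = true := by decide +kernel

theorem shift122 : allR shiftOK 11 249856 = true := by decide +kernel

theorem shift123 : allR shiftOK 11 251904 = true := by decide +kernel

theorem shift124 : allR shiftOK 11 253952 = true := by decide +kernel

theorem shift125 : allR shiftOK 11 256000 = true := by decide +kernel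

theorem shift126 : allR shiftOK 11 258048 = true := by decide +kernel

theorem shift127 : allR shiftOK 11 260096 = true := by decide +kernel

theorem shift128 : allR shiftOK 11 262144 = true := by decide +kernel

theorem shift129 : allR shiftOK 11 264192 = true := by decide +kernel

end CfsgLib.Fi24Mult
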