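import Cfsg.Agent.Fi24Mult.ShiftCheck

set_option autoImplicit false
set_option maxRecDepth 100000
set_option Elab.async false

/-! The shift checks, part 13 (generated certificate). -/

namespace CfsgLib.Fi24Mult

open CfsgLib.CosetEnum

theorem shift130 : allR shiftOK 11 266240 = true := by decide +kernel

theorem shift131 : allR shiftOK 11 268288 = true := by decide +kernel

theorem shift132 : allR shiftOK 11 270336 = true := by decide +kernel

theorem shift133 : allR shiftOK 11 272384 = true := by decide +kernel

theorem shift134 : allR shiftOK 11 274432 = true := by decide +kernel

theorem shift135 : allR shiftOK 11 276480 = true := by decide +kernel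

theorem shift136 : allR shiftOK 11 278528 = true := by decide +kernel

theorem shift137 : allR shiftOK 11 280576 = true := by decide +kernel

theorem shift138 : allR shiftOK 11 282624 = true := by decide +kernel

theorem shift139 : allR shiftOK 11 284672 = true := by decide +kernel

end CfsgLib.Fi24Mult
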