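import Cfsg.Agent.Fi24Mult.ShiftCheck

set_option autoImplicit false
set_option maxRecDepth 100000
set_option Elab.async false

/-! The shift checks, part 14 (generated certificate). -/

namespace CfsgLib.Fi24Mult

open CfsgLib.CosetEnum

theorem shift140 : allR shiftOK 11 286720 = true := by decide +kernel

theorem shift141 : allR shiftOK 11 288768 = true := by decide +kernel

theorem shift142 : allR shiftOK 11 290816 = true := by decide +kernel

theorem shift143 : allR shiftOK 11 292864 = true := by decide +kernel

theorem shift144 : allR shiftOK 11 294912 = true := by decide +kernel

theorem shift145 : allR shiftOK 11 296960 = true := by decide +kernel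

theorem shift146 : allR shiftOK 11 299008 = true := by decide +kernel

theorem shift147 : allR shiftOK 11 301056 = true := by decide +kernel

theorem shift148 : allR shiftOK 11 303104 = true := by decide +kernel

theorem shift149 : allR shiftOK 11 305152 = true := by decide +kernel

end CfsgLib.Fi24Mult
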