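import Cfsg.Agent.Fi24Mult.ShiftCheck

set_option autoImplicit false
set_option maxRecDepth 100000
set_option Elab.async false

/-! The shift checks, part 2 (generated certificate). -/

namespace CfsgLib.Fi24Mult

open CfsgLib.CosetEnum

theorem shift20 : allR shiftOK 11 40960 = true := by decide +kernel

theorem shift21 : allR shiftOK 11 43008 = true := by decide +kernel

theorem shift22 : allR shiftOK 11 45056 = true := by decide +kernel

theorem shift23 : allR shiftOK 11 47104 = true := by decide +kernel

theorem shift24 : allR shiftOK 11 49152 = true := by decide +kernel

theorem shift25 : allR shiftOK 11 51200 = true := by decide +kernel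

theorem shift26 : allR shiftOK 11 53248 = true := by decide +kernel

theorem shift27 : allR shiftOK 11 55296 = true := by decide +kernel

theorem shift28 : allR shiftOK 11 57344 = true := by decide +kernel

theorem shift29 : allR shiftOK 11 59392 = true := by decide +kernel

end CfsgLib.Fi24Mult
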