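import Cfsg.Agent.Fi24Mult.ShiftCheck

set_option autoImplicit false
set_option maxRecDepth 100000
set_option Elab.async false

/-! The shift checks, part 3 (generated certificate). -/

namespace CfsgLib.Fi24Mult

open CfsgLib.CosetEnum

theorem shift30 : allR shiftOK 11 61440 = true := by decide +kernel

theorem shift31 : allR shiftOK 11 63488 = true := by decide +kernel

theorem shift32 : allR shiftOK 11 65536 = true := by decide +kernel

theorem shift33 : allR shiftOK 11 67584 = true := by decide +kernel

theorem shift34 : allR shiftOK 11 69632 = true := by decide +kernel

theorem shift35 : allR shiftOK 11 71680 = true := by decide +kernel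

theorem shift36 : allR shiftOK 11 73728 = true := by decide +kernel

theorem shift37 : allR shiftOK 11 75776 = true := by decide +kernel

theorem shift38 : allR shiftOK 11 77824 = true := by decide +kernel

theorem shift39 : allR shiftOK 11 79872 = true := by decide +kernel

end CfsgLib.Fi24Mult
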