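import Cfsg.Agent.Fi24Mult.ShiftCheck

set_option autoImplicit false
set_option maxRecDepth 100000
set_option Elab.async false

/-! The shift checks, part 4 (generated certificate). -/

namespace CfsgLib.Fi24Mult

open CfsgLib.CosetEnum

theorem shift40 : allR shiftOK 11 81920 = true := by decide +kernel

theorem shift41 : allR shiftOK 11 83968 = true := by decide +kernel

theorem shift42 : allR shiftOK 11 86016 = true := by decide +kernel

theorem shift43 : allR shiftOK 11 88064 = true := by decide +kernel

theorem shift44 : allR shiftOK 11 90112 = true := by decide +kernel

theorem shift45 : allR shiftOK 11 92160 = true := by decide +kernel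

theorem shift46 : allR shiftOK 11 94208 = true := by decide +kernel

theorem shift47 : allR shiftOK 11 96256 = true := by decide +kernel

theorem shift48 : allR shiftOK 11 98304 = true := by decide +kernel

theorem shift49 : allR shiftOK 11 100352 = true := by decide +kernel

end CfsgLib.Fi24Mult
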