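import Cfsg.Agent.Fi24Mult.ShiftCheck

set_option autoImplicit false
set_option maxRecDepth 100000
set_option Elab.async false

/-! The shift checks, part 5 (generated certificate). -/

namespace CfsgLib.Fi24Mult

open CfsgLib.CosetEnum

theorem shift50 : allR shiftOK 11 102400 = true := by decide +kernel

theorem shift51 : allR shiftOK 11 104448 = true := by decide +kernel

theorem shift52 : allR shiftOK 11 106496 = true := by decide +kernel

theorem shift53 : allR shiftOK 11 108544 = true := by decide +kernel

theorem shift54 : allR shiftOK 11 110592 = true := by decide +kernel

theorem shift55 : allR shiftOK 11 112640 = true := by decide +kernel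

theorem shift56 : allR shiftOK 11 114688 = true := by decide +kernel

theorem shift57 : allR shiftOK 11 116736 = true := by decide +kernel

theorem shift58 : allR shiftOK 11 118784 = true := by decide +kernel

theorem shift59 : allR shiftOK 11 120832 = true := by decide +kernel

end CfsgLib.Fi24Mult
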