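import Cfsg.Agent.Fi24Mult.ShiftCheck

set_option autoImplicit false
set_option maxRecDepth 100000
set_option Elab.async false

/-! The shift checks, part 6 (generated certificate). -/

namespace CfsgLib.Fi24Mult

open CfsgLib.CosetEnum

theorem shift60 : allR shiftOK 11 122880 = true := by decide +kernel

theorem shift61 : allR shiftOK 11 124928 = true := by decide +kernel

theorem shift62 : allR shiftOK 11 126976 = true := by decide +kernel

theorem shift63 : allR shiftOK 11 129024 = true := by decide +kernel

theorem shift64 : allR shiftOK 11 131072 = true := by decide +kernel

theorem shift65 : allR shiftOK 11 133120 = true := by decide +kernel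

theorem shift66 : allR shiftOK 11 135168 = true := by decide +kernel

theorem shift67 : allR shiftOK 11 137216 = true := by decide +kernel

theorem shift68 : allR shiftOK 11 139264 = true := by decide +kernel

theorem shift69 : allR shiftOK 11 141312 = true := by decide +kernel

end CfsgLib.Fi24Mult
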