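import Cfsg.Agent.Fi24Mult.ShiftCheck

set_option autoImplicit false
set_option maxRecDepth 100000
set_option Elab.async false

/-! The shift checks, part 7 (generated certificate). -/

namespace CfsgLib.Fi24Mult

open CfsgLib.CosetEnum

theorem shift70 : allR shiftOK 11 143360 = true := by decide +kernel

theorem shift71 : allR shiftOK 11 145408 = true := by decide +kernel

theorem shift72 : allR shiftOK 11 147456 = true := by decide +kernel

theorem shift73 : allR shiftOK 11 149504 = true := by decide +kernel

theorem shift74 : allR shiftOK 11 151552 = true := by decide +kernel

theorem shift75 : allR shiftOK 11 153600 = true := by decide +kernel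

theorem shift76 : allR shiftOK 11 155648 = true := by decide +kernel

theorem shift77 : allR shiftOK 11 157696 = true := by decide +kernel

theorem shift78 : allR shiftOK 11 159744 = true := by decide +kernel

theorem shift79 : allR shiftOK 11 161792 = true := by decide +kernel

end CfsgLib.Fi24Mult
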