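import Cfsg.Agent.Fi24Mult.ShiftCheck

set_option autoImplicit false
set_option maxRecDepth 100000
set_option Elab.async false

/-! The shift checks, part 8 (generated certificate). -/

namespace CfsgLib.Fi24Mult

open CfsgLib.CosetEnum

theorem shift80 : allR shiftOK 11 163840 = true := by decide +kernel

theorem shift81 : allR shiftOK 11 165888 = true := by decide +kernel

theorem shift82 : allR shiftOK 11 167936 = true := by decide +kernel

theorem shift83 : allR shiftOK 11 169984 = true := by decide +kernel

theorem shift84 : allR shiftOK 11 172032 = true := by decide +kernel

theorem shift85 : allR shiftOK 11 174080 = true := by decide +kernel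

theorem shift86 : allR shiftOK 11 176128 = true := by decide +kernel

theorem shift87 : allR shiftOK 11 178176 = true := by decide +kernel

theorem shift88 : allR shiftOK 11 180224 = true := by decide +kernel

theorem shift89 : allR shiftOK 11 182272 = true := by decide +kernel

end CfsgLib.Fi24Mult
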