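import Cfsg.Agent.Fi24Mult.ShiftCheck

set_option autoImplicit false
set_option maxRecDepth 100000
set_option Elab.async false

/-! The shift checks, part 9 (generated certificate). -/

namespace CfsgLib.Fi24Mult

open CfsgLib.CosetEnum

theorem shift90 : allR shiftOK 11 184320 = true := by decide +kernel

theorem shift91 : allR shiftOK 11 186368 = true := by decide +kernel

theorem shift92 : allR shiftOK 11 188416 = true := by decide +kernel

theorem shift93 : allR shiftOK 11 190464 = true := by decide +kernel

theorem shift94 : allR shiftOK 11 192512 = true := by decide +kernel

theorem shift95 : allR shiftOK 11 194560 = true := by decide +kernel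

theorem shift96 : allR shiftOK 11 196608 = true := by decide +kernel

theorem shift97 : allR shiftOK 11 198656 = true := by decide +kernel

theorem shift98 : allR shiftOK 11 200704 = true := by decide +kernel

theorem shift99 : allR shiftOK 11 202752 = true := by decide +kernel

end CfsgLib.Fi24Mult
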