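import Cfsg.Agent.Fi24Mult.Shift0
import Cfsg.Agent.Fi24Mult.Shift1
import Cfsg.Agent.Fi24Mult.Shift2
import Cfsg.Agent.Fi24Mult.Shift3
import Cfsg.Agent.Fi24Mult.Shift4
import Cfsg.Agent.Fi24Mult.Shift5
import Cfsg.Agent.Fi24Mult.Shift6
import Cfsg.Agent.Fi24Mult.Shift7
import Cfsg.Agent.Fi24Mult.Shift8
import Cfsg.Agent.Fi24Mult.Shift9
import Cfsg.Agent.Fi24Mult.Shift10
import Cfsg.Agent.Fi24Mult.Shift11
import Cfsg.Agent.Fi24Mult.Shift12
import Cfsg.Agent.Fi24Mult.Shift13
import Cfsg.Agent.Fi24Mult.Shift14
import Cfsg.Agent.CosetEnum.Wide.Engine

set_option autoImplicit false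
set_option maxRecDepth 100000

/-! The shift checks at all points. -/

namespace CfsgLib.Fi24Mult

open CfsgLib.CosetEnum

theorem shift_all : Wide.On shiftOK 0 306936 :=
  fun i hi hn => ((((((((((((((((((((((((((((((((((((((((((((((((((((((((((((((((((((((((((((((((((((((((((((((((((((((((((((((((((((((((((((((((((((((((((((((((((((((Wide.On.of_allR shift0).append (Wide.On.of_allR shift1)).append (Wide.On.of_allR shift2)).append (Wide.On.of_allR shift3)).append (Wide.On.of_allR shift4)).append (Wide.On.of_allR shift5)).append (Wide.On.of_allR shift6)).append (Wide.On.of_allR shift7)).append (Wide.On.of_allR shift8)).append (Wide.On.of_allR shift9)).append (Wide.On.of_allR shift10)).append (Wide.On.of_allR shift11)).append (Wide.On.of_allR shift12)).append (Wide.On.of_allR shift13)).append (Wide.On.of_allR shift14)).append (Wide.On.of_allR shift15)).append (Wide.On.of_allR shift16)).append (Wide.On.of_allR shift17)).append (Wide.On.of_allR shift18)).append (Wide.On.of_allR shift19)).append (Wide.On.of_allR shift20)).append (Wide.On.of_allR shift21)).append (Wide.On.of_allR shift22)).append (Wide.On.of_allR shift23)).append (Wide.On.of_allR shift24)).append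 (Wide.On.of_allR shift25)).append (Wide.On.of_allR shift26)).append (Wide.On.of_allR shift27)).append (Wide.On.of_allR shift28)).append (Wide.On.of_allR shift29)).append (Wide.On.of_allR shift30)).append (Wide.On.of_allR shift31)).append (Wide.On.of_allR shift32)).append (Wide.On.of_allR shift33)).append (Wide.On.of_allR shift34)).append (Wide.On.of_allR shift35)).append (Wide.On.of_allR shift36)).append (Wide.On.of_allR shift37)).append (Wide.On.of_allR shift38)).append (Wide.On.of_allR shift39)).append (Wide.On.of_allR shift40)).append (Wide.On.of_allR shift41)).append (Wide.On.of_allR shift42)).append (Wide.On.of_allR shift43)).append (Wide.On.of_allR shift44)).append (Wide.On.of_allR shift45)).append (Wide.On.of_allR shift46)).append (Wide.On.of_allR shift47)).append (Wide.On.of_allR shift48)).append (Wide.On.of_allR shift49)).append (Wide.On.of_allR shift50)).append (Wide.On.of_allR shift51)).append (Wide.On.of_allR shift52)).append (Wide.On.of_allR shift53)).append (Wide.On.of_allR shift54)).append (Wide.On.of_allR shift55)).append (Wide.On.of_allR shift56)).append (Wide.On.of_allR shift57)).append (Wide.On.of_allR shift58)).append (Wide.On.of_allR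 shift59)).append (Wide.On.of_allR shift60)).append (Wide.On.of_allR shift61)).append (Wide.On.of_allR shift62)).append (Wide.On.of_allR shift63)).append (Wide.On.of_allR shift64)).append (Wide.On.of_allR shift65)).append (Wide.On.of_allR shift66)).append (Wide.On.of_allR shift67)).append (Wide.On.of_allR shift68)).append (Wide.On.of_allR shift69)).append (Wide.On.of_allR shift70)).append (Wide.On.of_allR shift71)).append (Wide.On.of_allR shift72)).append (Wide.On.of_allR shift73)).append (Wide.On.of_allR shift74)).append (Wide.On.of_allR shift75)).append (Wide.On.of_allR shift76)).append (Wide.On.of_allR shift77)).append (Wide.On.of_allR shift78)).append (Wide.On.of_allR shift79)).append (Wide.On.of_allR shift80)).append (Wide.On.of_allR shift81)).append (Wide.On.of_allR shift82)).append (Wide.On.of_allR shift83)).append (Wide.On.of_allR shift84)).append (Wide.On.of_allR shift85)).append (Wide.On.of_allR shift86)).append (Wide.On.of_allR shift87)).append (Wide.On.of_allR shift88)).append (Wide.On.of_allR shift89)).append (Wide.On.of_allR shift90)).append (Wide.On.of_allR shift91)).append (Wide.On.of_allR shift92)).append (Wide.On.of_allR shift93)).append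 (Wide.On.of_allR shift94)).append (Wide.On.of_allR shift95)).append (Wide.On.of_allR shift96)).append (Wide.On.of_allR shift97)).append (Wide.On.of_allR shift98)).append (Wide.On.of_allR shift99)).append (Wide.On.of_allR shift100)).append (Wide.On.of_allR shift101)).append (Wide.On.of_allR shift102)).append (Wide.On.of_allR shift103)).append (Wide.On.of_allR shift104)).append (Wide.On.of_allR shift105)).append (Wide.On.of_allR shift106)).append (Wide.On.of_allR shift107)).append (Wide.On.of_allR shift108)).append (Wide.On.of_allR shift109)).append (Wide.On.of_allR shift110)).append (Wide.On.of_allR shift111)).append (Wide.On.of_allR shift112)).append (Wide.On.of_allR shift113)).append (Wide.On.of_allR shift114)).append (Wide.On.of_allR shift115)).append (Wide.On.of_allR shift116)).append (Wide.On.of_allR shift117)).append (Wide.On.of_allR shift118)).append (Wide.On.of_allR shift119)).append (Wide.On.of_allR shift120)).append (Wide.On.of_allR shift121)).append (Wide.On.of_allR shift122)).append (Wide.On.of_allR shift123)).append (Wide.On.of_allR shift124)).append (Wide.On.of_allR shift125)).append (Wide.On.of_allR shift126)).append (Wide.On.of_allR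 shift127)).append (Wide.On.of_allR shift128)).append (Wide.On.of_allR shift129)).append (Wide.On.of_allR shift130)).append (Wide.On.of_allR shift131)).append (Wide.On.of_allR shift132)).append (Wide.On.of_allR shift133)).append (Wide.On.of_allR shift134)).append (Wide.On.of_allR shift135)).append (Wide.On.of_allR shift136)).append (Wide.On.of_allR shift137)).append (Wide.On.of_allR shift138)).append (Wide.On.of_allR shift139)).append (Wide.On.of_allR shift140)).append (Wide.On.of_allR shift141)).append (Wide.On.of_allR shift142)).append (Wide.On.of_allR shift143)).append (Wide.On.of_allR shift144)).append (Wide.On.of_allR shift145)).append (Wide.On.of_allR shift146)).append (Wide.On.of_allR shift147)).append (Wide.On.of_allR shift148)).append (Wide.On.of_allR shift149)) i hi (by omega)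

end CfsgLib.Fi24Mult
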