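import Cfsg.Agent.CosetEnum.Fi24H.FastFix
import Cfsg.Agent.Fi24Mult.ShiftData

/-!
The shifts satisfy the relators of the triple cover (generated certificate).
-/

set_option autoImplicit false
set_option maxRecDepth 100000
set_option Elab.async false

namespace CfsgLib.Fi24Mult

open CfsgLib.CosetEnum CfsgLib.CosetEnum.Fi24H

noncomputable section

/-- The shift of a letter in an entry. -/
def fld (x v : Nat) : Nat := Nat.land (Nat.shiftRight v (Nat.mul 2 x)) 3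

/-- A number divisible by three. -/
def z3 (n : Nat) : Bool := Nat.beq (Nat.mod n 3) 0

/-- Two commuting letters. -/
def comS (x y v p q : Nat) : Bool :=
  z3 (Nat.add (Nat.add (fld x v) (Nat.mul 2 (fld y p))) (Nat.add (fld x q) (Nat.mul 2 (fld y v))))

/-- Two adjacent letters. -/
def braS (x y v p b c q : Nat) : Bool :=
  z3 (Nat.add (Nat.add (Nat.add (fld x v) (Nat.mul 2 (fld y p))) (Nat.add (fld x b) (Nat.mul 2 (fld y c))))
    (Nat.add (fld x q) (Nat.mul 2 (fld y v))))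

/-- A letter has equal shifts at the two ends of an edge. -/
def symS (x v p : Nat) : Bool := Nat.beq (fld x p) (fld x v) && Nat.blt (fld x v) 3

/-- Steps by the composite of seven letters. -/
def run7 : Nat → Nat → Nat → Bool
  | 0, _, t => z3 t
  | m + 1, p, t => force (Nat.mod (Nat.add (fld 12 (shiftT p)) (Nat.mul 2 t)) 3) fun u => force (c7 p) fun q => run7 m q u

/-- Steps by the composite of fourteen letters. -/
def run14 : Nat → Nat → Nat → Bool
  | 0, _, t => Nat.beq (Nat.mod t 3) 1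
  | m + 1, p, t => force (Nat.add t (fld 13 (shiftT p))) fun u => force (c14 p) fun q => run14 m q u

/-- The relator of the long element. -/
def longS (i v : Nat) : Bool := force (u11 i) fun p => force (Nat.mul 2 (fld 11 v)) fun t => run7 9 p t

/-- The definition of a composite shift. -/
def cmpS7 (i v : Nat) : Bool := force i fun p => force 0 fun t => force (Nat.mod (Nat.mul 2 (Nat.add t (fld 7 (shiftT p)))) 3) fun t => force (u7 p) fun p => force (Nat.mod (Nat.mul 2 (Nat.add t (fld 5 (shiftT p)))) 3) fun t => force (u5 p) fun p => force (Nat.mod (Nat.mul 2 (Nat.add t (fld 4 (shiftT p)))) 3) fun t => force (u4 p) fun p => force (Nat.mod (Nat.mul 2 (Nat.add t (fld 3 (shiftT p)))) 3) fun t => force (u3 p) fun p => force (Nat.mod (Nat.mul 2 (Nat.add t (fld 2 (shiftT p)))) 3) fun t => force (u2 p) fun p => force (Nat.mod (Nat.mul 2 (Nat.add t (fld 1 (shiftT p)))) 3) fun t => force (u1 p) fun p => force (Nat.mod (Nat.mul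 2 (Nat.add t (fld 0 (shiftT p)))) 3) fun t => Nat.beq (Nat.mod t 3) (fld 12 v)

/-- The definition of a composite shift. -/
def cmpS14 (i v : Nat) : Bool := force i fun p => force 0 fun t => force (Nat.mod (Nat.mul 2 (Nat.add t (fld 3 (shiftT p)))) 3) fun t => force (u3 p) fun p => force (Nat.mod (Nat.mul 2 (Nat.add t (fld 2 (shiftT p)))) 3) fun t => force (u2 p) fun p => force (Nat.mod (Nat.mul 2 (Nat.add t (fld 1 (shiftT p)))) 3) fun t => force (u1 p) fun p => force (Nat.mod (Nat.mul 2 (Nat.add t (fld 0 (shiftT p)))) 3) fun t => force (u0 p) fun p => force (Nat.mod (Nat.mul 2 (Nat.add t (fld 10 (shiftT p)))) 3) fun t => force (u10 p) fun p => force (Nat.mod (Nat.mul 2 (Nat.add t (fld 11 (shiftT p)))) 3) fun t => force (u11 p) fun p => force (Nat.mod (Nat.mul 2 (Nat.add t (fld 3 (shiftT p)))) 3) fun t => force (u3 p) fun p => force (Nat.mod (Nat.mul 2 (Nat.add t (fld 4 (shiftT p)))) 3) fun t => force (u4 p) fun p =>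 force (Nat.mod (Nat.mul 2 (Nat.add t (fld 5 (shiftT p)))) 3) fun t => force (u5 p) fun p => force (Nat.mod (Nat.mul 2 (Nat.add t (fld 6 (shiftT p)))) 3) fun t => force (u6 p) fun p => force (Nat.mod (Nat.mul 2 (Nat.add t (fld 9 (shiftT p)))) 3) fun t => force (u9 p) fun p => force (Nat.mod (Nat.mul 2 (Nat.add t (fld 3 (shiftT p)))) 3) fun t => force (u3 p) fun p => force (Nat.mod (Nat.mul 2 (Nat.add t (fld 7 (shiftT p)))) 3) fun t => force (u7 p) fun p => force (Nat.mod (Nat.mul 2 (Nat.add t (fld 8 (shiftT p)))) 3) fun t => Nat.beq (Nat.mod t 3) (fld 13 v)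

/-- All checks at a point. -/
def shiftOK (i : Nat) : Bool := bif Nat.blt i 306936 then force (shiftT i) fun v => force (u0 i) fun a0 => force (u1 i) fun a1 => force (u2 i) fun a2 => force (u3 i) fun a3 => force (u4 i) fun a4 => force (u5 i) fun a5 => force (u6 i) fun a6 => force (u7 i) fun a7 => force (u8 i) fun a8 => force (u9 i) fun a9 => force (u10 i) fun a10 => force (u11 i) fun a11 => force (shiftT a0) fun v0 => force (shiftT a1) fun v1 => force (shiftT a2) fun v2 => force (shiftT a3) fun v3 => force (shiftT a4) fun v4 => force (shiftT a5) fun v5 => force (shiftT a6) fun v6 => force (shiftT a7) fun v7 => force (shiftT a8) fun v8 => force (shiftT a9) fun v9 => force (shiftT a10) fun v10 => force (shiftT a11) fun v11 => symS 0 v v0 &&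
    symS 1 v v1 &&
    symS 2 v v2 &&
    symS 3 v v3 &&
    symS 4 v v4 &&
    symS 5 v v5 &&
    symS 6 v v6 &&
    symS 7 v v7 &&
    symS 8 v v8 &&
    symS 9 v v9 &&
    symS 10 v v10 &&
    symS 11 v v11 &&
    comS 0 2 v v0 v2 &&
    comS 0 3 v v0 v3 &&
    comS 0 4 v v0 v4 &&
    comS 0 5 v v0 v5 &&
    comS 0 6 v v0 v6 &&
    comS 0 7 v v0 v7 &&
    comS 0 8 v v0 v8 &&
    comS 0 9 v v0 v9 &&
    comS 0 11 v v0 v11 &&
    comS 1 3 v v1 v3 &&
    comS 1 4 v v1 v4 &&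
    comS 1 5 v v1 v5 &&
    comS 1 6 v v1 v6 &&
    comS 1 7 v v1 v7 &&
    comS 1 8 v v1 v8 &&
    comS 1 9 v v1 v9 &&
    comS 1 10 v v1 v10 &&
    comS 1 11 v v1 v11 &&
    comS 2 4 v v2 v4 &&
    comS 2 5 v v2 v5 &&
    comS 2 6 v v2 v6 &&
    comS 2 7 v v2 v7 &&
    comS 2 8 v v2 v8 &&
    comS 2 9 v v2 v9 &&
    comS 2 10 v v2 v10 &&
    comS 2 11 v v2 v11 &&
    comS 3 5 v v3 v5 &&
    comS 3 6 v v3 v6 &&
    comS 3 8 v v3 v8 &&
    comS 3 9 v v3 v9 &&
    comS 3 10 v v3 v10 &&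
    comS 3 11 v v3 v11 &&
    comS 4 6 v v4 v6 &&
    comS 4 7 v v4 v7 &&
    comS 4 8 v v4 v8 &&
    comS 4 9 v v4 v9 &&
    comS 4 10 v v4 v10 &&
    comS 4 11 v v4 v11 &&
    comS 5 7 v v5 v7 &&
    comS 5 8 v v5 v8 &&
    comS 5 9 v v5 v9 &&
    comS 5 10 v v5 v10 &&
    comS 5 11 v v5 v11 &&
    comS 6 7 v v6 v7 &&
    comS 6 8 v v6 v8 &&
    comS 6 10 v v6 v10 &&
    comS 6 11 v v6 v11 &&
    comS 7 9 v v7 v9 &&
    comS 7 10 v v7 v10 &&
    comS 7 11 v v7 v11 &&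
    comS 8 9 v v8 v9 &&
    comS 8 10 v v8 v10 &&
    comS 8 11 v v8 v11 &&
    comS 9 10 v v9 v10 &&
    comS 9 11 v v9 v11 &&
    (force (u1 a0) fun b => force (u0 b) fun c => braS 0 1 v v0 (shiftT b) (shiftT c) v1) &&
    (force (u10 a0) fun b => force (u0 b) fun c => braS 0 10 v v0 (shiftT b) (shiftT c) v10) &&
    (force (u2 a1) fun b => force (u1 b) fun c => braS 1 2 v v1 (shiftT b) (shiftT c) v2) &&
    (force (u3 a2) fun b => force (u2 b) fun c => braS 2 3 v v2 (shiftT b) (shiftT c) v3) &&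
    (force (u4 a3) fun b => force (u3 b) fun c => braS 3 4 v v3 (shiftT b) (shiftT c) v4) &&
    (force (u7 a3) fun b => force (u3 b) fun c => braS 3 7 v v3 (shiftT b) (shiftT c) v7) &&
    (force (u5 a4) fun b => force (u4 b) fun c => braS 4 5 v v4 (shiftT b) (shiftT c) v5) &&
    (force (u6 a5) fun b => force (u5 b) fun c => braS 5 6 v v5 (shiftT b) (shiftT c) v6) &&
    (force (u9 a6) fun b => force (u6 b) fun c => braS 6 9 v v6 (shiftT b) (shiftT c) v9) &&
    (force (u8 a7) fun b => force (u7 b) fun c => braS 7 8 v v7 (shiftT b) (shiftT c) v8) &&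
    (force (u11 a10) fun b => force (u10 b) fun c => braS 10 11 v v10 (shiftT b) (shiftT c) v11) &&
    cmpS7 i v &&
    cmpS14 i v &&
    longS i v &&
    run14 17 i 0 else true

theorem shiftOK_spec (i : Nat) (hi : i < 306936) (h : shiftOK i = true) :
    symS 0 (shiftT i) (shiftT (u0 i)) = true ∧
    symS 1 (shiftT i) (shiftT (u1 i)) = true ∧
    symS 2 (shiftT i) (shiftT (u2 i)) = true ∧
    symS 3 (shiftT i) (shiftT (u3 i)) = true ∧
    symS 4 (shiftT i) (shiftT (u4 i)) = true ∧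
    symS 5 (shiftT i) (shiftT (u5 i)) = true ∧
    symS 6 (shiftT i) (shiftT (u6 i)) = true ∧
    symS 7 (shiftT i) (shiftT (u7 i)) = true ∧
    symS 8 (shiftT i) (shiftT (u8 i)) = true ∧
    symS 9 (shiftT i) (shiftT (u9 i)) = true ∧
    symS 10 (shiftT i) (shiftT (u10 i)) = true ∧
    symS 11 (shiftT i) (shiftT (u11 i)) = true ∧
    comS 0 2 (shiftT i) (shiftT (u0 i)) (shiftT (u2 i)) = true ∧
    comS 0 3 (shiftT i) (shiftT (u0 i)) (shiftT (u3 i)) = true ∧
    comS 0 4 (shiftT i) (shiftT (u0 i)) (shiftT (u4 i)) = true ∧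
    comS 0 5 (shiftT i) (shiftT (u0 i)) (shiftT (u5 i)) = true ∧
    comS 0 6 (shiftT i) (shiftT (u0 i)) (shiftT (u6 i)) = true ∧
    comS 0 7 (shiftT i) (shiftT (u0 i)) (shiftT (u7 i)) = true ∧
    comS 0 8 (shiftT i) (shiftT (u0 i)) (shiftT (u8 i)) = true ∧
    comS 0 9 (shiftT i) (shiftT (u0 i)) (shiftT (u9 i)) = true ∧
    comS 0 11 (shiftT i) (shiftT (u0 i)) (shiftT (u11 i)) = true ∧
    comS 1 3 (shiftT i) (shiftT (u1 i)) (shiftT (u3 i)) = true ∧
    comS 1 4 (shiftT i) (shiftT (u1 i)) (shiftT (u4 i)) = true ∧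
    comS 1 5 (shiftT i) (shiftT (u1 i)) (shiftT (u5 i)) = true ∧
    comS 1 6 (shiftT i) (shiftT (u1 i)) (shiftT (u6 i)) = true ∧
    comS 1 7 (shiftT i) (shiftT (u1 i)) (shiftT (u7 i)) = true ∧
    comS 1 8 (shiftT i) (shiftT (u1 i)) (shiftT (u8 i)) = true ∧
    comS 1 9 (shiftT i) (shiftT (u1 i)) (shiftT (u9 i)) = true ∧
    comS 1 10 (shiftT i) (shiftT (u1 i)) (shiftT (u10 i)) = true ∧
    comS 1 11 (shiftT i) (shiftT (u1 i)) (shiftT (u11 i)) = true ∧
    comS 2 4 (shiftT i) (shiftT (u2 i)) (shiftT (u4 i)) = true ∧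
    comS 2 5 (shiftT i) (shiftT (u2 i)) (shiftT (u5 i)) = true ∧
    comS 2 6 (shiftT i) (shiftT (u2 i)) (shiftT (u6 i)) = true ∧
    comS 2 7 (shiftT i) (shiftT (u2 i)) (shiftT (u7 i)) = true ∧
    comS 2 8 (shiftT i) (shiftT (u2 i)) (shiftT (u8 i)) = true ∧
    comS 2 9 (shiftT i) (shiftT (u2 i)) (shiftT (u9 i)) = true ∧
    comS 2 10 (shiftT i) (shiftT (u2 i)) (shiftT (u10 i)) = true ∧
    comS 2 11 (shiftT i) (shiftT (u2 i)) (shiftT (u11 i)) = true ∧
    comS 3 5 (shiftT i) (shiftT (u3 i)) (shiftT (u5 i)) = true ∧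
    comS 3 6 (shiftT i) (shiftT (u3 i)) (shiftT (u6 i)) = true ∧
    comS 3 8 (shiftT i) (shiftT (u3 i)) (shiftT (u8 i)) = true ∧
    comS 3 9 (shiftT i) (shiftT (u3 i)) (shiftT (u9 i)) = true ∧
    comS 3 10 (shiftT i) (shiftT (u3 i)) (shiftT (u10 i)) = true ∧
    comS 3 11 (shiftT i) (shiftT (u3 i)) (shiftT (u11 i)) = true ∧
    comS 4 6 (shiftT i) (shiftT (u4 i)) (shiftT (u6 i)) = true ∧
    comS 4 7 (shiftT i) (shiftT (u4 i)) (shiftT (u7 i)) = true ∧
    comS 4 8 (shiftT i) (shiftT (u4 i)) (shiftT (u8 i)) = true ∧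
    comS 4 9 (shiftT i) (shiftT (u4 i)) (shiftT (u9 i)) = true ∧
    comS 4 10 (shiftT i) (shiftT (u4 i)) (shiftT (u10 i)) = true ∧
    comS 4 11 (shiftT i) (shiftT (u4 i)) (shiftT (u11 i)) = true ∧
    comS 5 7 (shiftT i) (shiftT (u5 i)) (shiftT (u7 i)) = true ∧
    comS 5 8 (shiftT i) (shiftT (u5 i)) (shiftT (u8 i)) = true ∧
    comS 5 9 (shiftT i) (shiftT (u5 i)) (shiftT (u9 i)) = true ∧
    comS 5 10 (shiftT i) (shiftT (u5 i)) (shiftT (u10 i)) = true ∧
    comS 5 11 (shiftT i) (shiftT (u5 i)) (shiftT (u11 i)) = true ∧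
    comS 6 7 (shiftT i) (shiftT (u6 i)) (shiftT (u7 i)) = true ∧
    comS 6 8 (shiftT i) (shiftT (u6 i)) (shiftT (u8 i)) = true ∧
    comS 6 10 (shiftT i) (shiftT (u6 i)) (shiftT (u10 i)) = true ∧
    comS 6 11 (shiftT i) (shiftT (u6 i)) (shiftT (u11 i)) = true ∧
    comS 7 9 (shiftT i) (shiftT (u7 i)) (shiftT (u9 i)) = true ∧
    comS 7 10 (shiftT i) (shiftT (u7 i)) (shiftT (u10 i)) = true ∧
    comS 7 11 (shiftT i) (shiftT (u7 i)) (shiftT (u11 i)) = true ∧
    comS 8 9 (shiftT i) (shiftT (u8 i)) (shiftT (u9 i)) = true ∧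
    comS 8 10 (shiftT i) (shiftT (u8 i)) (shiftT (u10 i)) = true ∧
    comS 8 11 (shiftT i) (shiftT (u8 i)) (shiftT (u11 i)) = true ∧
    comS 9 10 (shiftT i) (shiftT (u9 i)) (shiftT (u10 i)) = true ∧
    comS 9 11 (shiftT i) (shiftT (u9 i)) (shiftT (u11 i)) = true ∧
    braS 0 1 (shiftT i) (shiftT (u0 i)) (shiftT (u1 (u0 i))) (shiftT (u0 (u1 (u0 i)))) (shiftT (u1 i)) = true ∧
    braS 0 10 (shiftT i) (shiftT (u0 i)) (shiftT (u10 (u0 i))) (shiftT (u0 (u10 (u0 i)))) (shiftT (u10 i)) = true ∧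
    braS 1 2 (shiftT i) (shiftT (u1 i)) (shiftT (u2 (u1 i))) (shiftT (u1 (u2 (u1 i)))) (shiftT (u2 i)) = true ∧
    braS 2 3 (shiftT i) (shiftT (u2 i)) (shiftT (u3 (u2 i))) (shiftT (u2 (u3 (u2 i)))) (shiftT (u3 i)) = true ∧
    braS 3 4 (shiftT i) (shiftT (u3 i)) (shiftT (u4 (u3 i))) (shiftT (u3 (u4 (u3 i)))) (shiftT (u4 i)) = true ∧
    braS 3 7 (shiftT i) (shiftT (u3 i)) (shiftT (u7 (u3 i))) (shiftT (u3 (u7 (u3 i)))) (shiftT (u7 i)) = true ∧
    braS 4 5 (shiftT i) (shiftT (u4 i)) (shiftT (u5 (u4 i))) (shiftT (u4 (u5 (u4 i)))) (shiftT (u5 i)) = true ∧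
    braS 5 6 (shiftT i) (shiftT (u5 i)) (shiftT (u6 (u5 i))) (shiftT (u5 (u6 (u5 i)))) (shiftT (u6 i)) = true ∧
    braS 6 9 (shiftT i) (shiftT (u6 i)) (shiftT (u9 (u6 i))) (shiftT (u6 (u9 (u6 i)))) (shiftT (u9 i)) = true ∧
    braS 7 8 (shiftT i) (shiftT (u7 i)) (shiftT (u8 (u7 i))) (shiftT (u7 (u8 (u7 i)))) (shiftT (u8 i)) = true ∧
    braS 10 11 (shiftT i) (shiftT (u10 i)) (shiftT (u11 (u10 i))) (shiftT (u10 (u11 (u10 i)))) (shiftT (u11 i)) = true ∧
    cmpS7 i (shiftT i) = true ∧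
    cmpS14 i (shiftT i) = true ∧
    longS i (shiftT i) = true ∧
    run14 17 i 0 = true := by
  unfold shiftOK at h
  rw [show Nat.blt i 306936 = true by simpa using hi] at h
  simp only [cond_true, force_eq, Bool.and_eq_true, and_assoc] at h
  exact h

end

end CfsgLib.Fi24Mult
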