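import Cfsg.Agent.Fi24Mult.Model

/-!
The relators of the triple cover, one by one (generated certificate).
-/

set_option autoImplicit false
set_option maxRecDepth 100000
set_option maxHeartbeats 1000000

namespace CfsgLib.Fi24Mult

open CfsgLib.CosetEnum CfsgLib.CosetEnum.Fi24H

noncomputable section

theorem rel0_2 : prodw pe [0, 2, 0, 2] = 1 :=
  comW 0 2 (by norm_num) (by norm_num) (by decide +kernel) fun i hi => (spec i hi).2.2.2.2.2.2.2.2.2.2.2.2.1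

theorem rel0_3 : prodw pe [0, 3, 0, 3] = 1 :=
  comW 0 3 (by norm_num) (by norm_num) (by decide +kernel) fun i hi => (spec i hi).2.2.2.2.2.2.2.2.2.2.2.2.2.1

theorem rel0_4 : prodw pe [0, 4, 0, 4] = 1 :=
  comW 0 4 (by norm_num) (by norm_num) (by decide +kernel) fun i hi => (spec i hi).2.2.2.2.2.2.2.2.2.2.2.2.2.2.1

theorem rel0_5 : prodw pe [0, 5, 0, 5] = 1 :=
  comW 0 5 (by norm_num) (by norm_num) (by decide +kernel) fun i hi => (spec i hi).2.2.2.2.2.2.2.2.2.2.2.2.2.2.2.1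

theorem rel0_6 : prodw pe [0, 6, 0, 6] = 1 :=
  comW 0 6 (by norm_num) (by norm_num) (by decide +kernel) fun i hi => (spec i hi).2.2.2.2.2.2.2.2.2.2.2.2.2.2.2.2.1

theorem rel0_7 : prodw pe [0, 7, 0, 7] = 1 :=
  comW 0 7 (by norm_num) (by norm_num) (by decide +kernel) fun i hi => (spec i hi).2.2.2.2.2.2.2.2.2.2.2.2.2.2.2.2.2.1

theorem rel0_8 : prodw pe [0, 8, 0, 8] = 1 :=
  comW 0 8 (by norm_num) (by norm_num) (by decide +kernel) fun i hi => (spec i hi).2.2.2.2.2.2.2.2.2.2.2.2.2.2.2.2.2.2.1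

theorem rel0_9 : prodw pe [0, 9, 0, 9] = 1 :=
  comW 0 9 (by norm_num) (by norm_num) (by decide +kernel) fun i hi => (spec i hi).2.2.2.2.2.2.2.2.2.2.2.2.2.2.2.2.2.2.2.1

theorem rel0_11 : prodw pe [0, 11, 0, 11] = 1 :=
  comW 0 11 (by norm_num) (by norm_num) (by decide +kernel) fun i hi => (spec i hi).2.2.2.2.2.2.2.2.2.2.2.2.2.2.2.2.2.2.2.2.1

theorem rel1_3 : prodw pe [1, 3, 1, 3] = 1 :=
  comW 1 3 (by norm_num) (by norm_num) (by decide +kernel) fun i hi => (spec i hi).2.2.2.2.2.2.2.2.2.2.2.2.2.2.2.2.2.2.2.2.2.1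

theorem rel1_4 : prodw pe [1, 4, 1, 4] = 1 :=
  comW 1 4 (by norm_num) (by norm_num) (by decide +kernel) fun i hi => (spec i hi).2.2.2.2.2.2.2.2.2.2.2.2.2.2.2.2.2.2.2.2.2.2.1

theorem rel1_5 : prodw pe [1, 5, 1, 5] = 1 :=
  comW 1 5 (by norm_num) (by norm_num) (by decide +kernel) fun i hi => (spec i hi).2.2.2.2.2.2.2.2.2.2.2.2.2.2.2.2.2.2.2.2.2.2.2.1

theorem rel1_6 : prodw pe [1, 6, 1, 6] = 1 :=
  comW 1 6 (by norm_num) (by norm_num) (by decide +kernel) fun i hi => (spec i hi).2.2.2.2.2.2.2.2.2.2.2.2.2.2.2.2.2.2.2.2.2.2.2.2.1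

theorem rel1_7 : prodw pe [1, 7, 1, 7] = 1 :=
  comW 1 7 (by norm_num) (by norm_num) (by decide +kernel) fun i hi => (spec i hi).2.2.2.2.2.2.2.2.2.2.2.2.2.2.2.2.2.2.2.2.2.2.2.2.2.1

theorem rel1_8 : prodw pe [1, 8, 1, 8] = 1 :=
  comW 1 8 (by norm_num) (by norm_num) (by decide +kernel) fun i hi => (spec i hi).2.2.2.2.2.2.2.2.2.2.2.2.2.2.2.2.2.2.2.2.2.2.2.2.2.2.1

theorem rel1_9 : prodw pe [1, 9, 1, 9] = 1 :=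
  comW 1 9 (by norm_num) (by norm_num) (by decide +kernel) fun i hi => (spec i hi).2.2.2.2.2.2.2.2.2.2.2.2.2.2.2.2.2.2.2.2.2.2.2.2.2.2.2.1

theorem rel1_10 : prodw pe [1, 10, 1, 10] = 1 :=
  comW 1 10 (by norm_num) (by norm_num) (by decide +kernel) fun i hi => (spec i hi).2.2.2.2.2.2.2.2.2.2.2.2.2.2.2.2.2.2.2.2.2.2.2.2.2.2.2.2.1

theorem rel1_11 : prodw pe [1, 11, 1, 11] = 1 :=
  comW 1 11 (by norm_num) (by norm_num) (by decide +kernel) fun i hi => (spec i hi).2.2.2.2.2.2.2.2.2.2.2.2.2.2.2.2.2.2.2.2.2.2.2.2.2.2.2.2.2.1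

theorem rel2_4 : prodw pe [2, 4, 2, 4] = 1 :=
  comW 2 4 (by norm_num) (by norm_num) (by decide +kernel) fun i hi => (spec i hi).2.2.2.2.2.2.2.2.2.2.2.2.2.2.2.2.2.2.2.2.2.2.2.2.2.2.2.2.2.2.1

theorem rel2_5 : prodw pe [2, 5, 2, 5] = 1 :=
  comW 2 5 (by norm_num) (by norm_num) (by decide +kernel) fun i hi => (spec i hi).2.2.2.2.2.2.2.2.2.2.2.2.2.2.2.2.2.2.2.2.2.2.2.2.2.2.2.2.2.2.2.1

theorem rel2_6 : prodw pe [2, 6, 2, 6] = 1 :=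
  comW 2 6 (by norm_num) (by norm_num) (by decide +kernel) fun i hi => (spec i hi).2.2.2.2.2.2.2.2.2.2.2.2.2.2.2.2.2.2.2.2.2.2.2.2.2.2.2.2.2.2.2.2.1

theorem rel2_7 : prodw pe [2, 7, 2, 7] = 1 :=
  comW 2 7 (by norm_num) (by norm_num) (by decide +kernel) fun i hi => (spec i hi).2.2.2.2.2.2.2.2.2.2.2.2.2.2.2.2.2.2.2.2.2.2.2.2.2.2.2.2.2.2.2.2.2.1

theorem rel2_8 : prodw pe [2, 8, 2, 8] = 1 :=
  comW 2 8 (by norm_num) (by norm_num) (by decide +kernel) fun i hi => (spec i hi).2.2.2.2.2.2.2.2.2.2.2.2.2.2.2.2.2.2.2.2.2.2.2.2.2.2.2.2.2.2.2.2.2.2.1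

theorem rel2_9 : prodw pe [2, 9, 2, 9] = 1 :=
  comW 2 9 (by norm_num) (by norm_num) (by decide +kernel) fun i hi => (spec i hi).2.2.2.2.2.2.2.2.2.2.2.2.2.2.2.2.2.2.2.2.2.2.2.2.2.2.2.2.2.2.2.2.2.2.2.1

theorem rel2_10 : prodw pe [2, 10, 2, 10] = 1 :=
  comW 2 10 (by norm_num) (by norm_num) (by decide +kernel) fun i hi => (spec i hi).2.2.2.2.2.2.2.2.2.2.2.2.2.2.2.2.2.2.2.2.2.2.2.2.2.2.2.2.2.2.2.2.2.2.2.2.1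

theorem rel2_11 : prodw pe [2, 11, 2, 11] = 1 :=
  comW 2 11 (by norm_num) (by norm_num) (by decide +kernel) fun i hi => (spec i hi).2.2.2.2.2.2.2.2.2.2.2.2.2.2.2.2.2.2.2.2.2.2.2.2.2.2.2.2.2.2.2.2.2.2.2.2.2.1

theorem rel3_5 : prodw pe [3, 5, 3, 5] = 1 :=
  comW 3 5 (by norm_num) (by norm_num) (by decide +kernel) fun i hi => (spec i hi).2.2.2.2.2.2.2.2.2.2.2.2.2.2.2.2.2.2.2.2.2.2.2.2.2.2.2.2.2.2.2.2.2.2.2.2.2.2.1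

theorem rel3_6 : prodw pe [3, 6, 3, 6] = 1 :=
  comW 3 6 (by norm_num) (by norm_num) (by decide +kernel) fun i hi => (spec i hi).2.2.2.2.2.2.2.2.2.2.2.2.2.2.2.2.2.2.2.2.2.2.2.2.2.2.2.2.2.2.2.2.2.2.2.2.2.2.2.1

theorem rel3_8 : prodw pe [3, 8, 3, 8] = 1 :=
  comW 3 8 (by norm_num) (by norm_num) (by decide +kernel) fun i hi => (spec i hi).2.2.2.2.2.2.2.2.2.2.2.2.2.2.2.2.2.2.2.2.2.2.2.2.2.2.2.2.2.2.2.2.2.2.2.2.2.2.2.2.1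

theorem rel3_9 : prodw pe [3, 9, 3, 9] = 1 :=
  comW 3 9 (by norm_num) (by norm_num) (by decide +kernel) fun i hi => (spec i hi).2.2.2.2.2.2.2.2.2.2.2.2.2.2.2.2.2.2.2.2.2.2.2.2.2.2.2.2.2.2.2.2.2.2.2.2.2.2.2.2.2.1

theorem rel3_10 : prodw pe [3, 10, 3, 10] = 1 :=
  comW 3 10 (by norm_num) (by norm_num) (by decide +kernel) fun i hi => (spec i hi).2.2.2.2.2.2.2.2.2.2.2.2.2.2.2.2.2.2.2.2.2.2.2.2.2.2.2.2.2.2.2.2.2.2.2.2.2.2.2.2.2.2.1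

theorem rel3_11 : prodw pe [3, 11, 3, 11] = 1 :=
  comW 3 11 (by norm_num) (by norm_num) (by decide +kernel) fun i hi => (spec i hi).2.2.2.2.2.2.2.2.2.2.2.2.2.2.2.2.2.2.2.2.2.2.2.2.2.2.2.2.2.2.2.2.2.2.2.2.2.2.2.2.2.2.2.1

theorem rel4_6 : prodw pe [4, 6, 4, 6] = 1 :=
  comW 4 6 (by norm_num) (by norm_num) (by decide +kernel) fun i hi => (spec i hi).2.2.2.2.2.2.2.2.2.2.2.2.2.2.2.2.2.2.2.2.2.2.2.2.2.2.2.2.2.2.2.2.2.2.2.2.2.2.2.2.2.2.2.2.1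

theorem rel4_7 : prodw pe [4, 7, 4, 7] = 1 :=
  comW 4 7 (by norm_num) (by norm_num) (by decide +kernel) fun i hi => (spec i hi).2.2.2.2.2.2.2.2.2.2.2.2.2.2.2.2.2.2.2.2.2.2.2.2.2.2.2.2.2.2.2.2.2.2.2.2.2.2.2.2.2.2.2.2.2.1

theorem rel4_8 : prodw pe [4, 8, 4, 8] = 1 :=
  comW 4 8 (by norm_num) (by norm_num) (by decide +kernel) fun i hi => (spec i hi).2.2.2.2.2.2.2.2.2.2.2.2.2.2.2.2.2.2.2.2.2.2.2.2.2.2.2.2.2.2.2.2.2.2.2.2.2.2.2.2.2.2.2.2.2.2.1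

theorem rel4_9 : prodw pe [4, 9, 4, 9] = 1 :=
  comW 4 9 (by norm_num) (by norm_num) (by decide +kernel) fun i hi => (spec i hi).2.2.2.2.2.2.2.2.2.2.2.2.2.2.2.2.2.2.2.2.2.2.2.2.2.2.2.2.2.2.2.2.2.2.2.2.2.2.2.2.2.2.2.2.2.2.2.1

theorem rel4_10 : prodw pe [4, 10, 4, 10] = 1 :=
  comW 4 10 (by norm_num) (by norm_num) (by decide +kernel) fun i hi => (spec i hi).2.2.2.2.2.2.2.2.2.2.2.2.2.2.2.2.2.2.2.2.2.2.2.2.2.2.2.2.2.2.2.2.2.2.2.2.2.2.2.2.2.2.2.2.2.2.2.2.1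

theorem rel4_11 : prodw pe [4, 11, 4, 11] = 1 :=
  comW 4 11 (by norm_num) (by norm_num) (by decide +kernel) fun i hi => (spec i hi).2.2.2.2.2.2.2.2.2.2.2.2.2.2.2.2.2.2.2.2.2.2.2.2.2.2.2.2.2.2.2.2.2.2.2.2.2.2.2.2.2.2.2.2.2.2.2.2.2.1

theorem rel5_7 : prodw pe [5, 7, 5, 7] = 1 :=
  comW 5 7 (by norm_num) (by norm_num) (by decide +kernel) fun i hi => (spec i hi).2.2.2.2.2.2.2.2.2.2.2.2.2.2.2.2.2.2.2.2.2.2.2.2.2.2.2.2.2.2.2.2.2.2.2.2.2.2.2.2.2.2.2.2.2.2.2.2.2.2.1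

theorem rel5_8 : prodw pe [5, 8, 5, 8] = 1 :=
  comW 5 8 (by norm_num) (by norm_num) (by decide +kernel) fun i hi => (spec i hi).2.2.2.2.2.2.2.2.2.2.2.2.2.2.2.2.2.2.2.2.2.2.2.2.2.2.2.2.2.2.2.2.2.2.2.2.2.2.2.2.2.2.2.2.2.2.2.2.2.2.2.1

theorem rel5_9 : prodw pe [5, 9, 5, 9] = 1 :=
  comW 5 9 (by norm_num) (by norm_num) (by decide +kernel) fun i hi => (spec i hi).2.2.2.2.2.2.2.2.2.2.2.2.2.2.2.2.2.2.2.2.2.2.2.2.2.2.2.2.2.2.2.2.2.2.2.2.2.2.2.2.2.2.2.2.2.2.2.2.2.2.2.2.1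

theorem rel5_10 : prodw pe [5, 10, 5, 10] = 1 :=
  comW 5 10 (by norm_num) (by norm_num) (by decide +kernel) fun i hi => (spec i hi).2.2.2.2.2.2.2.2.2.2.2.2.2.2.2.2.2.2.2.2.2.2.2.2.2.2.2.2.2.2.2.2.2.2.2.2.2.2.2.2.2.2.2.2.2.2.2.2.2.2.2.2.2.1

theorem rel5_11 : prodw pe [5, 11, 5, 11] = 1 :=
  comW 5 11 (by norm_num) (by norm_num) (by decide +kernel) fun i hi => (spec i hi).2.2.2.2.2.2.2.2.2.2.2.2.2.2.2.2.2.2.2.2.2.2.2.2.2.2.2.2.2.2.2.2.2.2.2.2.2.2.2.2.2.2.2.2.2.2.2.2.2.2.2.2.2.2.1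

theorem rel6_7 : prodw pe [6, 7, 6, 7] = 1 :=
  comW 6 7 (by norm_num) (by norm_num) (by decide +kernel) fun i hi => (spec i hi).2.2.2.2.2.2.2.2.2.2.2.2.2.2.2.2.2.2.2.2.2.2.2.2.2.2.2.2.2.2.2.2.2.2.2.2.2.2.2.2.2.2.2.2.2.2.2.2.2.2.2.2.2.2.2.1

theorem rel6_8 : prodw pe [6, 8, 6, 8] = 1 :=
  comW 6 8 (by norm_num) (by norm_num) (by decide +kernel) fun i hi => (spec i hi).2.2.2.2.2.2.2.2.2.2.2.2.2.2.2.2.2.2.2.2.2.2.2.2.2.2.2.2.2.2.2.2.2.2.2.2.2.2.2.2.2.2.2.2.2.2.2.2.2.2.2.2.2.2.2.2.1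

theorem rel6_10 : prodw pe [6, 10, 6, 10] = 1 :=
  comW 6 10 (by norm_num) (by norm_num) (by decide +kernel) fun i hi => (spec i hi).2.2.2.2.2.2.2.2.2.2.2.2.2.2.2.2.2.2.2.2.2.2.2.2.2.2.2.2.2.2.2.2.2.2.2.2.2.2.2.2.2.2.2.2.2.2.2.2.2.2.2.2.2.2.2.2.2.1

theorem rel6_11 : prodw pe [6, 11, 6, 11] = 1 :=
  comW 6 11 (by norm_num) (by norm_num) (by decide +kernel) fun i hi => (spec i hi).2.2.2.2.2.2.2.2.2.2.2.2.2.2.2.2.2.2.2.2.2.2.2.2.2.2.2.2.2.2.2.2.2.2.2.2.2.2.2.2.2.2.2.2.2.2.2.2.2.2.2.2.2.2.2.2.2.2.1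

theorem rel7_9 : prodw pe [7, 9, 7, 9] = 1 :=
  comW 7 9 (by norm_num) (by norm_num) (by decide +kernel) fun i hi => (spec i hi).2.2.2.2.2.2.2.2.2.2.2.2.2.2.2.2.2.2.2.2.2.2.2.2.2.2.2.2.2.2.2.2.2.2.2.2.2.2.2.2.2.2.2.2.2.2.2.2.2.2.2.2.2.2.2.2.2.2.2.1

theorem rel7_10 : prodw pe [7, 10, 7, 10] = 1 :=
  comW 7 10 (by norm_num) (by norm_num) (by decide +kernel) fun i hi => (spec i hi).2.2.2.2.2.2.2.2.2.2.2.2.2.2.2.2.2.2.2.2.2.2.2.2.2.2.2.2.2.2.2.2.2.2.2.2.2.2.2.2.2.2.2.2.2.2.2.2.2.2.2.2.2.2.2.2.2.2.2.2.1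

theorem rel7_11 : prodw pe [7, 11, 7, 11] = 1 :=
  comW 7 11 (by norm_num) (by norm_num) (by decide +kernel) fun i hi => (spec i hi).2.2.2.2.2.2.2.2.2.2.2.2.2.2.2.2.2.2.2.2.2.2.2.2.2.2.2.2.2.2.2.2.2.2.2.2.2.2.2.2.2.2.2.2.2.2.2.2.2.2.2.2.2.2.2.2.2.2.2.2.2.1

theorem rel8_9 : prodw pe [8, 9, 8, 9] = 1 :=
  comW 8 9 (by norm_num) (by norm_num) (by decide +kernel) fun i hi => (spec i hi).2.2.2.2.2.2.2.2.2.2.2.2.2.2.2.2.2.2.2.2.2.2.2.2.2.2.2.2.2.2.2.2.2.2.2.2.2.2.2.2.2.2.2.2.2.2.2.2.2.2.2.2.2.2.2.2.2.2.2.2.2.2.1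

theorem rel8_10 : prodw pe [8, 10, 8, 10] = 1 :=
  comW 8 10 (by norm_num) (by norm_num) (by decide +kernel) fun i hi => (spec i hi).2.2.2.2.2.2.2.2.2.2.2.2.2.2.2.2.2.2.2.2.2.2.2.2.2.2.2.2.2.2.2.2.2.2.2.2.2.2.2.2.2.2.2.2.2.2.2.2.2.2.2.2.2.2.2.2.2.2.2.2.2.2.2.1

theorem rel8_11 : prodw pe [8, 11, 8, 11] = 1 :=
  comW 8 11 (by norm_num) (by norm_num) (by decide +kernel) fun i hi => (spec i hi).2.2.2.2.2.2.2.2.2.2.2.2.2.2.2.2.2.2.2.2.2.2.2.2.2.2.2.2.2.2.2.2.2.2.2.2.2.2.2.2.2.2.2.2.2.2.2.2.2.2.2.2.2.2.2.2.2.2.2.2.2.2.2.2.1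

theorem rel9_10 : prodw pe [9, 10, 9, 10] = 1 :=
  comW 9 10 (by norm_num) (by norm_num) (by decide +kernel) fun i hi => (spec i hi).2.2.2.2.2.2.2.2.2.2.2.2.2.2.2.2.2.2.2.2.2.2.2.2.2.2.2.2.2.2.2.2.2.2.2.2.2.2.2.2.2.2.2.2.2.2.2.2.2.2.2.2.2.2.2.2.2.2.2.2.2.2.2.2.2.1

theorem rel9_11 : prodw pe [9, 11, 9, 11] = 1 :=
  comW 9 11 (by norm_num) (by norm_num) (by decide +kernel) fun i hi => (spec i hi).2.2.2.2.2.2.2.2.2.2.2.2.2.2.2.2.2.2.2.2.2.2.2.2.2.2.2.2.2.2.2.2.2.2.2.2.2.2.2.2.2.2.2.2.2.2.2.2.2.2.2.2.2.2.2.2.2.2.2.2.2.2.2.2.2.2.1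

theorem rel0_1 : prodw pe [0, 1, 0, 1, 0, 1] = 1 :=
  braW 0 1 (by norm_num) (by norm_num) (by decide +kernel) fun i hi => (spec i hi).2.2.2.2.2.2.2.2.2.2.2.2.2.2.2.2.2.2.2.2.2.2.2.2.2.2.2.2.2.2.2.2.2.2.2.2.2.2.2.2.2.2.2.2.2.2.2.2.2.2.2.2.2.2.2.2.2.2.2.2.2.2.2.2.2.2.2.1

theorem rel0_10 : prodw pe [0, 10, 0, 10, 0, 10] = 1 :=
  braW 0 10 (by norm_num) (by norm_num) (by decide +kernel) fun i hi => (spec i hi).2.2.2.2.2.2.2.2.2.2.2.2.2.2.2.2.2.2.2.2.2.2.2.2.2.2.2.2.2.2.2.2.2.2.2.2.2.2.2.2.2.2.2.2.2.2.2.2.2.2.2.2.2.2.2.2.2.2.2.2.2.2.2.2.2.2.2.2.1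

theorem rel1_2 : prodw pe [1, 2, 1, 2, 1, 2] = 1 :=
  braW 1 2 (by norm_num) (by norm_num) (by decide +kernel) fun i hi => (spec i hi).2.2.2.2.2.2.2.2.2.2.2.2.2.2.2.2.2.2.2.2.2.2.2.2.2.2.2.2.2.2.2.2.2.2.2.2.2.2.2.2.2.2.2.2.2.2.2.2.2.2.2.2.2.2.2.2.2.2.2.2.2.2.2.2.2.2.2.2.2.1

theorem rel2_3 : prodw pe [2, 3, 2, 3, 2, 3] = 1 :=
  braW 2 3 (by norm_num) (by norm_num) (by decide +kernel) fun i hi => (spec i hi).2.2.2.2.2.2.2.2.2.2.2.2.2.2.2.2.2.2.2.2.2.2.2.2.2.2.2.2.2.2.2.2.2.2.2.2.2.2.2.2.2.2.2.2.2.2.2.2.2.2.2.2.2.2.2.2.2.2.2.2.2.2.2.2.2.2.2.2.2.2.1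

theorem rel3_4 : prodw pe [3, 4, 3, 4, 3, 4] = 1 :=
  braW 3 4 (by norm_num) (by norm_num) (by decide +kernel) fun i hi => (spec i hi).2.2.2.2.2.2.2.2.2.2.2.2.2.2.2.2.2.2.2.2.2.2.2.2.2.2.2.2.2.2.2.2.2.2.2.2.2.2.2.2.2.2.2.2.2.2.2.2.2.2.2.2.2.2.2.2.2.2.2.2.2.2.2.2.2.2.2.2.2.2.2.1

theorem rel3_7 : prodw pe [3, 7, 3, 7, 3, 7] = 1 :=
  braW 3 7 (by norm_num) (by norm_num) (by decide +kernel) fun i hi => (spec i hi).2.2.2.2.2.2.2.2.2.2.2.2.2.2.2.2.2.2.2.2.2.2.2.2.2.2.2.2.2.2.2.2.2.2.2.2.2.2.2.2.2.2.2.2.2.2.2.2.2.2.2.2.2.2.2.2.2.2.2.2.2.2.2.2.2.2.2.2.2.2.2.2.1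

theorem rel4_5 : prodw pe [4, 5, 4, 5, 4, 5] = 1 :=
  braW 4 5 (by norm_num) (by norm_num) (by decide +kernel) fun i hi => (spec i hi).2.2.2.2.2.2.2.2.2.2.2.2.2.2.2.2.2.2.2.2.2.2.2.2.2.2.2.2.2.2.2.2.2.2.2.2.2.2.2.2.2.2.2.2.2.2.2.2.2.2.2.2.2.2.2.2.2.2.2.2.2.2.2.2.2.2.2.2.2.2.2.2.2.1

theorem rel5_6 : prodw pe [5, 6, 5, 6, 5, 6] = 1 :=
  braW 5 6 (by norm_num) (by norm_num) (by decide +kernel) fun i hi => (spec i hi).2.2.2.2.2.2.2.2.2.2.2.2.2.2.2.2.2.2.2.2.2.2.2.2.2.2.2.2.2.2.2.2.2.2.2.2.2.2.2.2.2.2.2.2.2.2.2.2.2.2.2.2.2.2.2.2.2.2.2.2.2.2.2.2.2.2.2.2.2.2.2.2.2.2.1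

theorem rel6_9 : prodw pe [6, 9, 6, 9, 6, 9] = 1 :=
  braW 6 9 (by norm_num) (by norm_num) (by decide +kernel) fun i hi => (spec i hi).2.2.2.2.2.2.2.2.2.2.2.2.2.2.2.2.2.2.2.2.2.2.2.2.2.2.2.2.2.2.2.2.2.2.2.2.2.2.2.2.2.2.2.2.2.2.2.2.2.2.2.2.2.2.2.2.2.2.2.2.2.2.2.2.2.2.2.2.2.2.2.2.2.2.2.1

theorem rel7_8 : prodw pe [7, 8, 7, 8, 7, 8] = 1 :=
  braW 7 8 (by norm_num) (by norm_num) (by decide +kernel) fun i hi => (spec i hi).2.2.2.2.2.2.2.2.2.2.2.2.2.2.2.2.2.2.2.2.2.2.2.2.2.2.2.2.2.2.2.2.2.2.2.2.2.2.2.2.2.2.2.2.2.2.2.2.2.2.2.2.2.2.2.2.2.2.2.2.2.2.2.2.2.2.2.2.2.2.2.2.2.2.2.2.1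

theorem rel10_11 : prodw pe [10, 11, 10, 11, 10, 11] = 1 :=
  braW 10 11 (by norm_num) (by norm_num) (by decide +kernel) fun i hi => (spec i hi).2.2.2.2.2.2.2.2.2.2.2.2.2.2.2.2.2.2.2.2.2.2.2.2.2.2.2.2.2.2.2.2.2.2.2.2.2.2.2.2.2.2.2.2.2.2.2.2.2.2.2.2.2.2.2.2.2.2.2.2.2.2.2.2.2.2.2.2.2.2.2.2.2.2.2.2.2.1

/-- All relators of the triple cover hold. -/
theorem pe_words : ∀ w ∈ Fi24.words, w ≠ spWord → prodw pe w = 1 := by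
  intro w hw hne
  simp only [Fi24.words, List.mem_cons, List.not_mem_nil, or_false] at hw

  rcases hw with rfl | rfl | rfl | rfl | rfl | rfl | rfl | rfl | rfl | rfl | rfl | rfl | rfl | rfl | rfl | rfl | rfl | rfl | rfl | rfl | rfl | rfl | rfl | rfl | rfl | rfl | rfl | rfl | rfl | rfl | rfl | rfl | rfl | rfl | rfl | rfl | rfl | rfl | rfl | rfl | rfl | rfl | rfl | rfl | rfl | rfl | rfl | rfl | rfl | rfl | rfl | rfl | rfl | rfl | rfl | rfl | rfl | rfl | rfl | rfl | rfl | rfl | rfl | rfl | rfl | rfl | rfl | rfl | rfl | rfl | rfl | rfl | rfl | rfl | rfl | rfl | rfl | rfl | rfl | rfl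
  · simpa [prodw] using pe_sq 0
  · exact rel0_1
  · exact rel0_2
  · exact rel0_3
  · exact rel0_4
  · exact rel0_5
  · exact rel0_6
  · exact rel0_7
  · exact rel0_8
  · exact rel0_9
  · exact rel0_10
  · exact rel0_11
  · simpa [prodw] using pe_sq 1
  · exact rel1_2
  · exact rel1_3
  · exact rel1_4
  · exact rel1_5
  · exact rel1_6
  · exact rel1_7
  · exact rel1_8
  · exact rel1_9
  · exact rel1_10
  · exact rel1_11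
  · simpa [prodw] using pe_sq 2
  · exact rel2_3
  · exact rel2_4
  · exact rel2_5
  · exact rel2_6
  · exact rel2_7
  · exact rel2_8
  · exact rel2_9
  · exact rel2_10
  · exact rel2_11
  · simpa [prodw] using pe_sq 3
  · exact rel3_4
  · exact rel3_5
  · exact rel3_6
  · exact rel3_7
  · exact rel3_8
  · exact rel3_9
  · exact rel3_10
  · exact rel3_11
  · simpa [prodw] using pe_sq 4
  · exact rel4_5
  · exact rel4_6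
  · exact rel4_7
  · exact rel4_8
  · exact rel4_9
  · exact rel4_10
  · exact rel4_11
  · simpa [prodw] using pe_sq 5
  · exact rel5_6
  · exact rel5_7
  · exact rel5_8
  · exact rel5_9
  · exact rel5_10
  · exact rel5_11
  · simpa [prodw] using pe_sq 6
  · exact rel6_7
  · exact rel6_8
  · exact rel6_9
  · exact rel6_10
  · exact rel6_11
  · simpa [prodw] using pe_sq 7
  · exact rel7_8
  · exact rel7_9
  · exact rel7_10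
  · exact rel7_11
  · simpa [prodw] using pe_sq 8
  · exact rel8_9
  · exact rel8_10
  · exact rel8_11
  · simpa [prodw] using pe_sq 9
  · exact rel9_10
  · exact rel9_11
  · simpa [prodw] using pe_sq 10
  · exact rel10_11
  · simpa [prodw] using pe_sq 11
  · exact rel_long
  · exact absurd rfl hne

end

end CfsgLib.Fi24Mult
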