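import Cfsg.Agent.Fi24Mult.ShiftRel
import Cfsg.Agent.Fi24Mult.Letters
import Cfsg.Prelude.Def_KGroupFacts

/-!
A perfect triple cover of `Fi₂₄′`: pairs of an element and its action on the points with residues.
-/

set_option autoImplicit false
set_option maxRecDepth 100000
set_option linter.style.haveILetI false

namespace CfsgLib.Fi24Mult

open CfsgLib.CosetEnum
open scoped commutatorElement

noncomputable section

local notation "G" => Fi24.setup.Grp

/-- A letter with its action. -/
def pl (x : ℕ) : G × Equiv.Perm Pt := (lt x, pe x)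

/-- The triple cover of `Fi₂₄`. -/
def Cov : Subgroup (G × Equiv.Perm Pt) := Subgroup.closure (pl '' {x | x < 12})

/-- A letter in the cover. -/
def cl (x : ℕ) : Cov :=
  if hx : x < 12 then ⟨pl x, Subgroup.subset_closure ⟨x, hx, rfl⟩⟩ else 1

theorem cl_val {x : ℕ} (hx : x < 12) : (cl x : G × Equiv.Perm Pt) = pl x := by rw [cl, dif_pos hx]

theorem cl_sq (x : ℕ) : cl x * cl x = 1 := by
  by_cases hx : x < 12
  · refine Subtype.ext ?_
    rw [Subgroup.coe_mul, cl_val hx]
    exact Prod.ext (lt_sq x) (pe_sq x)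
  · rw [cl, dif_neg hx, mul_one]

theorem cl_word : ∀ w : List ℕ, (∀ x ∈ w, x < 12) →
    ((prodw cl w : Cov) : G × Equiv.Perm Pt) = (prodw lt w, prodw pe w)
  | [], _ => rfl
  | x :: w, hw => by
    rw [prodw_cons, prodw_cons, prodw_cons, Subgroup.coe_mul, cl_val (hw x List.mem_cons_self),
      cl_word w fun y hy => hw y (List.mem_cons_of_mem x hy)]
    rfl

theorem cl_words {w : List ℕ} (hw : w ∈ Fi24.words) (hne : w ≠ spWord) : prodw cl w = 1 := by
  have hlt : ∀ x ∈ w, x < 12 := by
    have h := List.all_eq_true.mp (show Fi24.words.all (fun w => w.all (fun x => Nat.blt x 12)) = true by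
      decide +kernel) w hw
    simpa using h
  refine Subtype.ext ((cl_word w hlt).trans ?_)
  exact Prod.ext (Fi24.setup.prod_mem w hw) (pe_words w hw hne)

/-- The projection. -/
def toG : Cov →* G := (MonoidHom.fst _ _).comp Cov.subtype

theorem toG_cl {x : ℕ} (hx : x < 12) : toG (cl x) = lt x := congrArg Prod.fst (cl_val hx)

theorem closure_cl : Subgroup.closure (cl '' {x | x < 12}) = ⊤ := by
  have h : Subgroup.closure ((Subtype.val : Cov → _) ⁻¹' (pl '' {x | x < 12})) = ⊤ :=
    Subgroup.closure_closure_coe_preimage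
  rw [eq_top_iff, ← h, Subgroup.closure_le]
  rintro a ⟨x, hx, ha⟩
  exact Subgroup.subset_closure ⟨x, hx, Subtype.ext ((cl_val hx).trans ha)⟩

theorem toG_surjective : Function.Surjective toG := by
  rw [← MonoidHom.range_eq_top, eq_top_iff, ← Fi24.closure_g, Subgroup.closure_le]
  rintro _ ⟨x, hx, rfl⟩
  exact ⟨cl x, toG_cl hx⟩

/-- The translation. -/
def zc : Cov := prodw cl spWord

theorem sp_lt : ∀ x ∈ spWord, x < 12 := by decide +kernel

theorem sp_mem : spWord ∈ Fi24.words := by decide +kernel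

theorem zc_fst : toG zc = 1 := (congrArg Prod.fst (cl_word spWord sp_lt)).trans (Fi24.setup.prod_mem _ sp_mem)

/-- The action of an element of the cover. -/
def toP : Cov →* Equiv.Perm Pt := (MonoidHom.snd _ _).comp Cov.subtype

theorem zc_snd : toP zc = prodw pe spWord := congrArg Prod.snd (cl_word spWord sp_lt)

theorem zc_apply (p : Pt) : toP zc p = (p.1, p.2 - 1) := by
  have h := spider_shift (p.1, p.2 - 1)
  rw [sub_add_cancel, Equiv.Perm.inv_eq_iff_eq] at h
  rw [zc_snd, ← h]

theorem ext_iff' {a b : Cov} : a = b ↔ toG a = toG b ∧ ∀ p, toP a p = toP b p := by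
  constructor
  · rintro rfl; exact ⟨rfl, fun _ => rfl⟩
  · rintro ⟨h1, h2⟩; exact Subtype.ext (Prod.ext h1 (Equiv.ext h2))

theorem zc_cube : zc ^ 3 = 1 := by
  rw [ext_iff', map_pow, zc_fst, one_pow, map_one, map_pow, map_one]
  refine ⟨rfl, fun p => ?_⟩
  rw [pow_succ, pow_succ, pow_one, Equiv.Perm.mul_apply, Equiv.Perm.mul_apply, zc_apply, zc_apply,
    zc_apply, Equiv.Perm.one_apply]
  refine Prod.ext rfl ?_
  show p.2 - 1 - 1 - 1 = p.2
  rw [sub_sub, sub_sub, show ((1 : ZMod 3) + (1 + 1)) = 0 by decide, sub_zero]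

theorem zc_ne_one : zc ≠ 1 := by
  intro h
  have h1 := congrArg Prod.snd (zc_apply ((0 : Fin 306936), (0 : ZMod 3)))
  rw [h, map_one] at h1
  revert h1
  show (0 : ZMod 3) = 0 - 1 → False
  decide

theorem cl_conj {x : ℕ} (hx : x < 12) : cl x * zc * cl x = zc⁻¹ := by
  rw [eq_inv_iff_mul_eq_one, ext_iff', map_mul, map_mul, map_mul, toG_cl hx, zc_fst, mul_one, mul_one, lt_sq,
    map_one, map_mul, map_mul, map_mul, map_one]
  refine ⟨rfl, fun p => ?_⟩
  rw [Equiv.Perm.mul_apply, Equiv.Perm.mul_apply, Equiv.Perm.mul_apply, zc_apply,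
    show toP (cl x) = pe x from congrArg Prod.snd (cl_val hx), zc_apply, Equiv.Perm.one_apply]
  have h := pe_val hx (p.1, p.2 - 1)
  set q := pe x (p.1, p.2 - 1) with hq
  have h' := pe_val hx (q.1, q.2 - 1)
  have hi := (T_spec hx p.1.2).2
  have e1 : (q.1 : ℕ) = Fi24H.T x p.1 := congrArg Prod.fst h
  have e2 : q.2 = -(p.2 - 1 + sh x p.1) := congrArg Prod.snd h
  refine Prod.ext (Fin.ext ?_) ?_
  · refine (congrArg Prod.fst h' :).trans ?_
    show Fi24H.T x q.1 = p.1
    rw [e1, hi]
  · refine (congrArg Prod.snd h' :).trans ?_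
    show -(q.2 - 1 + sh x q.1) = p.2
    rw [e1, sh_T hx p.1.2, e2]
    ring

theorem conj_zc (a : Cov) : a * zc * a⁻¹ = zc ∨ a * zc * a⁻¹ = zc⁻¹ := by
  have ha : a ∈ Subgroup.closure (cl '' {x | x < 12}) := closure_cl ▸ Subgroup.mem_top a
  induction ha using Subgroup.closure_induction with
  | mem y hy =>
    obtain ⟨x, hx, rfl⟩ := hy
    right
    rw [inv_eq_of_mul_eq_one_right (cl_sq x), cl_conj hx]
  | one => exact Or.inl (by group)
  | mul a b _ _ iha ihb =>
    rw [show a * b * zc * (a * b)⁻¹ = a * (b * zc * b⁻¹) * a⁻¹ by group]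
    rcases ihb with h | h <;> rw [h]
    · exact iha
    · rcases iha with h' | h'
      · right
        rw [show a * zc⁻¹ * a⁻¹ = (a * zc * a⁻¹)⁻¹ by group, h']
      · left
        rw [show a * zc⁻¹ * a⁻¹ = (a * zc * a⁻¹)⁻¹ by group, h', inv_inv]
  | inv a _ iha =>
    rcases iha with h | h
    · left
      conv_lhs => rw [← h]
      group
    · right
      rw [eq_inv_iff_mul_eq_one]
      calc a⁻¹ * zc * a⁻¹⁻¹ * zc = a⁻¹ * (zc * (a * zc * a⁻¹)) * a := by group
        _ = 1 := by rw [h, mul_inv_cancel, mul_one, inv_mul_cancel]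

instance normal_zc : (Subgroup.zpowers zc).Normal := by
  refine ⟨fun b hb a => ?_⟩
  obtain ⟨m, rfl⟩ := Subgroup.mem_zpowers_iff.1 hb
  rw [← conj_zpow]
  rcases conj_zc a with h | h <;> rw [h]
  · exact zpow_mem (Subgroup.mem_zpowers _) m
  · exact zpow_mem (inv_mem (Subgroup.mem_zpowers _)) m

theorem toG_ker : toG.ker = Subgroup.zpowers zc := by
  obtain ⟨ψ, hψ⟩ := Fi24.setup.exists_hom (fun x => (QuotientGroup.mk (cl x) : Cov ⧸ Subgroup.zpowers zc))
    (fun x _ => by rw [← QuotientGroup.mk_mul, cl_sq, QuotientGroup.mk_one]) (fun w hw => by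
      have e : prodw (fun x => (QuotientGroup.mk (cl x) : Cov ⧸ Subgroup.zpowers zc)) w =
          QuotientGroup.mk (prodw cl w) := by
        simp only [prodw]
        rw [← QuotientGroup.mk'_apply, map_list_prod, List.map_map]
        rfl
      rw [e]
      by_cases hne : w = spWord
      · rw [hne]
        exact (QuotientGroup.eq_one_iff _).2 (Subgroup.mem_zpowers _)
      · rw [cl_words hw hne, QuotientGroup.mk_one])
  refine le_antisymm (fun a ha => ?_) ((Subgroup.zpowers_le).2 (MonoidHom.mem_ker.2 zc_fst))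
  have key : ψ.comp toG = QuotientGroup.mk' (Subgroup.zpowers zc) := by
    refine MonoidHom.eq_of_eqOn_dense closure_cl ?_
    rintro _ ⟨x, hx, rfl⟩
    rw [MonoidHom.comp_apply, toG_cl hx]
    exact hψ x hx
  have h := DFunLike.congr_fun key a
  rw [MonoidHom.comp_apply, MonoidHom.mem_ker.1 ha, map_one] at h
  exact (QuotientGroup.eq_one_iff _).1 h.symm

/-- The cover of `Fi₂₄′`. -/
def Cov' : Subgroup Cov := (commutator G).comap toG

/-- Its projection. -/
def covσ : Cov' →* Cfsg.Spor.Fi24' := (toG.comp Cov'.subtype).codRestrict (commutator G) fun a => a.2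

theorem covσ_surjective : Function.Surjective covσ := fun u => by
  obtain ⟨a, ha⟩ := toG_surjective u.1
  exact ⟨⟨a, show toG a ∈ commutator G from ha ▸ u.2⟩, Subtype.ext ha⟩

theorem zc_mem : zc ∈ Cov' := show toG zc ∈ commutator G from zc_fst ▸ one_mem _

theorem covσ_ker : covσ.ker = (Subgroup.zpowers zc).subgroupOf Cov' := by
  ext a
  rw [MonoidHom.mem_ker, Subgroup.mem_subgroupOf, ← toG_ker, MonoidHom.mem_ker]
  exact ⟨fun h => congrArg Subtype.val h, fun h => Subtype.ext h⟩

theorem covσ_central : covσ.ker ≤ Subgroup.center Cov' := by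
  obtain ⟨ε, hε⟩ := Fi24.exists_sign
  have key : ∀ a : Cov, (ε (toG a) = 1 ∧ a * zc * a⁻¹ = zc) ∨ (ε (toG a) = -1 ∧ a * zc * a⁻¹ = zc⁻¹) := by
    intro a
    have ha : a ∈ Subgroup.closure (cl '' {x | x < 12}) := closure_cl ▸ Subgroup.mem_top a
    induction ha using Subgroup.closure_induction with
    | mem y hy =>
      obtain ⟨x, hx, rfl⟩ := hy
      exact Or.inr ⟨by rw [toG_cl hx, hε x hx], by rw [inv_eq_of_mul_eq_one_right (cl_sq x), cl_conj hx]⟩
    | one => exact Or.inl ⟨by simp, by group⟩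
    | mul a b _ _ iha ihb =>
      rw [show a * b * zc * (a * b)⁻¹ = a * (b * zc * b⁻¹) * a⁻¹ by group, map_mul, map_mul]
      rcases ihb with ⟨hb, h⟩ | ⟨hb, h⟩ <;> rw [h, hb] <;> rcases iha with ⟨ha, h'⟩ | ⟨ha, h'⟩ <;> rw [ha]
      · exact Or.inl ⟨by decide, h'⟩
      · exact Or.inr ⟨by decide, h'⟩
      · exact Or.inr ⟨by decide, by rw [show a * zc⁻¹ * a⁻¹ = (a * zc * a⁻¹)⁻¹ by group, h']⟩
      · exact Or.inl ⟨by decide, by rw [show a * zc⁻¹ * a⁻¹ = (a * zc * a⁻¹)⁻¹ by group, h', inv_inv]⟩
    | inv a _ iha =>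
      rw [map_inv, map_inv]
      rcases iha with ⟨ha, h⟩ | ⟨ha, h⟩
      · refine Or.inl ⟨by rw [ha, inv_one], ?_⟩
        conv_lhs => rw [← h]
        group
      · refine Or.inr ⟨by rw [ha]; decide, ?_⟩
        rw [eq_inv_iff_mul_eq_one]
        calc a⁻¹ * zc * a⁻¹⁻¹ * zc = a⁻¹ * (zc * (a * zc * a⁻¹)) * a := by group
          _ = 1 := by rw [h, mul_inv_cancel, mul_one, inv_mul_cancel]
  rw [covσ_ker]
  intro a ha
  rw [Subgroup.mem_center_iff]
  intro b
  refine Subtype.ext ?_
  obtain ⟨m, hm⟩ := Subgroup.mem_zpowers_iff.1 (show (a : Cov) ∈ Subgroup.zpowers zc from ha)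
  have hb : ε (toG b) = 1 := by
    have h : toG b ∈ commutator G := b.2
    rwa [Fi24.commutator_eq hε, MonoidHom.mem_ker] at h
  rcases key b with ⟨-, h⟩ | ⟨h1, -⟩
  · have hc : Commute (b : Cov) zc := mul_inv_eq_iff_eq_mul.1 h
    rw [Subgroup.coe_mul, Subgroup.coe_mul, ← hm]
    exact (hc.zpow_right m).eq
  · rw [hb] at h1
    exact absurd h1 (by decide)

/-- Two letters commute in the cover, read from the relators. -/
theorem cl_comm {a b : ℕ} (h : comB a b = true) : cl a * cl b = cl b * cl a := by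
  have key : ∀ p q : ℕ, [p, q, p, q] ∈ Fi24.words → cl p * cl q = cl q * cl p := by
    intro p q hw
    have h1 := cl_words hw (fun e => by
      have := congrArg List.length e
      rw [show spWord.length = 238 by decide +kernel] at this
      simp at this)
    simp only [prodw, List.map_cons, List.map_nil, List.prod_cons, List.prod_nil, mul_one] at h1
    have h2 : cl p * cl q * (cl p * cl q) = 1 := by simpa only [mul_assoc] using h1
    rw [eq_inv_of_mul_eq_one_left h2, mul_inv_rev, inv_eq_of_mul_eq_one_right (cl_sq p),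
      inv_eq_of_mul_eq_one_right (cl_sq q)]
  simp only [comB, Bool.or_eq_true, Nat.beq_eq, List.contains_eq_mem, decide_eq_true_eq] at h
  rcases h with (rfl | h) | h
  · rfl
  · exact key a b h
  · exact (key b a h).symm

/-- The product of two adjacent letters lies in the derived subgroup of the cover. -/
theorem pair_mem {x p t : ℕ} (hx : x < 12) (hp : p < 12) (ht : t < 12) (h1 : comB x t = true)
    (h2 : comB p t = true)
    (h3 : (Fi24.words.contains [x, p, x, p, x, p] || Fi24.words.contains [p, x, p, x, p, x]) = true) :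
    cl x * cl p ∈ (commutator Cov').map Cov'.subtype := by
  have hev : ∀ a, a < 12 → cl a * cl t ∈ Cov' := fun a ha => show toG _ ∈ commutator G by
    rw [map_mul, toG_cl ha, toG_cl ht]
    exact even_pair ha ht
  have hsq : cl x * cl p * (cl x * cl p) ∈ (commutator Cov').map Cov'.subtype := by
    refine ⟨⁅(⟨_, hev x hx⟩ : Cov'), ⟨_, hev p hp⟩⁆, Subgroup.commutator_mem_commutator (Subgroup.mem_top _)
      (Subgroup.mem_top _), ?_⟩
    have cx := cl_comm h1
    have cy := cl_comm h2
    have iv : ∀ a, (cl a)⁻¹ = cl a := fun a => inv_eq_of_mul_eq_one_right (cl_sq a)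
    simp only [commutatorElement_def, Subgroup.coe_subtype, Subgroup.coe_mul, Subgroup.coe_inv, mul_inv_rev, iv]
    calc cl x * cl t * (cl p * cl t) * (cl t * cl x) * (cl t * cl p)
        = cl x * (cl t * cl p) * (cl t * cl t) * cl x * (cl t * cl p) := by simp only [mul_assoc]
      _ = cl x * (cl p * cl t) * cl x * (cl t * cl p) := by rw [cl_sq, mul_one, ← cy]
      _ = cl x * cl p * (cl t * cl x) * cl t * cl p := by simp only [mul_assoc]
      _ = cl x * cl p * (cl x * cl t) * cl t * cl p := by rw [← cx]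
      _ = cl x * cl p * cl x * (cl t * cl t) * cl p := by simp only [mul_assoc]
      _ = _ := by rw [cl_sq, mul_one, mul_assoc (cl x * cl p)]
  have h6 : cl x * (cl p * (cl x * (cl p * (cl x * cl p)))) = 1 := by
    simp only [Bool.or_eq_true, List.contains_eq_mem, decide_eq_true_eq] at h3
    have hlen : ∀ {a b : ℕ}, [a, b, a, b, a, b] ≠ spWord := fun e => by
      have := congrArg List.length e
      rw [show spWord.length = 238 by decide +kernel] at this
      simp at this
    rcases h3 with h | h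
    · simpa [prodw] using cl_words h hlen
    · have h' := congrArg (fun u : Cov => u⁻¹) (cl_words h hlen)
      simp only [prodw, List.map_cons, List.map_nil, List.prod_cons, List.prod_nil, mul_one, inv_one,
        mul_inv_rev, inv_eq_of_mul_eq_one_right (cl_sq _)] at h'
      simpa only [mul_assoc] using h'
  have e : cl x * cl p = cl x * cl p * (cl x * cl p) * (cl x * cl p * (cl x * cl p)) := by
    conv_lhs => rw [← mul_one (cl x * cl p), ← h6]
    simp only [mul_assoc]
  rw [e]
  exact mul_mem hsq hsq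

theorem cov'_perfect : commutator Cov' = ⊤ := by
  set K := (commutator Cov').map Cov'.subtype
  have hl : ∀ x, x < 12 → cl x * cl 11 ∈ K := by
    have step : ∀ x p, x < 12 → p < 12 → (comB x (tOf x) && comB p (tOf x) && Nat.blt (tOf x) 12 &&
        (Fi24.words.contains [x, p, x, p, x, p] || Fi24.words.contains [p, x, p, x, p, x])) = true →
        cl p * cl 11 ∈ K → cl x * cl 11 ∈ K := by
      intro x p hx hp h hk
      simp only [Bool.and_eq_true, Nat.blt_eq] at h
      have h1 := mul_mem (pair_mem hx hp h.1.2 h.1.1.1 h.1.1.2 h.2) hk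
      rwa [show cl x * cl p * (cl p * cl 11) = cl x * cl 11 by
        rw [mul_assoc, ← mul_assoc (cl p) (cl p), cl_sq, one_mul]] at h1
    have k11 : cl 11 * cl 11 ∈ K := by rw [cl_sq]; exact one_mem _
    have k10 := step 10 11 (by norm_num) (by norm_num) (by decide +kernel) k11
    have k0 := step 0 10 (by norm_num) (by norm_num) (by decide +kernel) k10
    have k1 := step 1 0 (by norm_num) (by norm_num) (by decide +kernel) k0
    have k2 := step 2 1 (by norm_num) (by norm_num) (by decide +kernel) k1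
    have k3 := step 3 2 (by norm_num) (by norm_num) (by decide +kernel) k2
    have k4 := step 4 3 (by norm_num) (by norm_num) (by decide +kernel) k3
    have k5 := step 5 4 (by norm_num) (by norm_num) (by decide +kernel) k4
    have k6 := step 6 5 (by norm_num) (by norm_num) (by decide +kernel) k5
    have k9 := step 9 6 (by norm_num) (by norm_num) (by decide +kernel) k6
    have k7 := step 7 3 (by norm_num) (by norm_num) (by decide +kernel) k3
    have k8 := step 8 7 (by norm_num) (by norm_num) (by decide +kernel) k7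
    intro x hx
    interval_cases x <;> assumption
  obtain ⟨ε, hε⟩ := Fi24.exists_sign
  have key : ∀ a : Cov, (ε (toG a) = 1 ∧ a ∈ K ∧ cl 11 * a * cl 11 ∈ K) ∨
      (ε (toG a) = -1 ∧ a * cl 11 ∈ K ∧ cl 11 * a ∈ K) := by
    intro a
    have ha : a ∈ Subgroup.closure (cl '' {x | x < 12}) := closure_cl ▸ Subgroup.mem_top a
    induction ha using Subgroup.closure_induction with
    | mem y hy =>
      obtain ⟨x, hx, rfl⟩ := hy
      refine Or.inr ⟨by rw [toG_cl hx, hε x hx], hl x hx, ?_⟩
      have := inv_mem (hl x hx)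
      rwa [mul_inv_rev, inv_eq_of_mul_eq_one_right (cl_sq x), inv_eq_of_mul_eq_one_right (cl_sq 11)] at this
    | one =>
      exact Or.inl ⟨by simp, one_mem _, by rw [mul_one, cl_sq]; exact one_mem _⟩
    | mul a b _ _ iha ihb =>
      rw [map_mul, map_mul]
      have h2 : ∀ u : Cov, cl 11 * (cl 11 * u) = u := fun u => by rw [← mul_assoc, cl_sq, one_mul]
      rcases iha with ⟨ha, p, q⟩ | ⟨ha, p, q⟩ <;> rcases ihb with ⟨hb, p', q'⟩ | ⟨hb, p', q'⟩ <;> rw [ha, hb]
      · refine Or.inl ⟨by decide, mul_mem p p', ?_⟩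
        have := mul_mem q q'
        simpa only [mul_assoc, h2] using this
      · refine Or.inr ⟨by decide, ?_, ?_⟩
        · simpa only [mul_assoc] using mul_mem p p'
        · simpa only [mul_assoc, h2] using mul_mem q q'
      · refine Or.inr ⟨by decide, ?_, ?_⟩
        · simpa only [mul_assoc, h2] using mul_mem p q'
        · simpa only [mul_assoc] using mul_mem q p'
      · refine Or.inl ⟨by decide, ?_, ?_⟩
        · simpa only [mul_assoc, h2] using mul_mem p q'
        · simpa only [mul_assoc] using mul_mem q p'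
    | inv a _ iha =>
      rw [map_inv, map_inv]
      have i11 := inv_eq_of_mul_eq_one_right (cl_sq 11)
      rcases iha with ⟨ha, p, q⟩ | ⟨ha, p, q⟩
      · refine Or.inl ⟨by rw [ha, inv_one], inv_mem p, ?_⟩
        simpa only [mul_inv_rev, i11, mul_assoc] using inv_mem q
      · refine Or.inr ⟨by rw [ha]; decide, ?_, ?_⟩
        · simpa only [mul_inv_rev, i11] using inv_mem q
        · simpa only [mul_inv_rev, i11] using inv_mem p
  rw [eq_top_iff]
  intro a _
  rcases key a with ⟨-, h, -⟩ | ⟨h, -, -⟩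
  · obtain ⟨b, hb, e⟩ := h
    rwa [← Subtype.ext e]
  · have ha : toG a ∈ commutator G := a.2
    rw [Fi24.commutator_eq hε, MonoidHom.mem_ker, h] at ha
    exact absurd ha (by decide)

/-- There is a finite stem extension with kernel of order three. -/
theorem exists_triple : ∃ (Γ : Type) (_ : Group Γ) (_ : Finite Γ) (σ : Γ →* Cfsg.Spor.Fi24'),
    Cfsg.IsStemExtension σ ∧ Nonempty (σ.ker ≃* Multiplicative (ZMod 3)) := by
  haveI : Finite G := Fi24.finite_grp
  refine ⟨Cov', inferInstance, inferInstance, covσ,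
    ⟨covσ_surjective, covσ_central, cov'_perfect ▸ le_top⟩, ?_⟩
  haveI : _root_.Fact (Nat.Prime 3) := ⟨Nat.prime_three⟩
  have ho : orderOf zc = 3 := orderOf_eq_prime zc_cube zc_ne_one
  have hle : Subgroup.zpowers zc ≤ Cov' := (Subgroup.zpowers_le).2 zc_mem
  have e : covσ.ker ≃* Subgroup.zpowers zc :=
    (MulEquiv.subgroupCongr covσ_ker).trans (Subgroup.subgroupOfEquivOfLe hle)
  haveI : IsCyclic covσ.ker := isCyclic_of_surjective e.symm e.symm.surjective
  exact ⟨mulEquivOfCyclicCardEq (by
    rw [Nat.card_congr e.toEquiv, Nat.card_zpowers, ho, Nat.card_congr Multiplicative.toAdd, Nat.card_zmod])⟩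

end

end CfsgLib.Fi24Mult
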