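import Cfsg.Agent.Fi24Mult.Letters
import Cfsg.Agent.Fi24Mult.CertCheck
import Cfsg.Prelude.Def_KGroupFacts

/-!
The kernel of a finite stem extension of `Fi₂₄′` is cyclic of order dividing three.
-/

set_option autoImplicit false
set_option maxRecDepth 100000
set_option linter.style.haveILetI false

namespace CfsgLib.Fi24Mult

open CfsgLib.CosetEnum

noncomputable section

local notation "G" => Fi24.setup.Grp

variable {Γ : Type} [Group Γ] (X : Ext Γ)

/-- The word of the last relator. -/
def spW : List ℕ := Fi24H.baseW.getD 68 []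

theorem spW_facts : (decide (spW ∈ Fi24.words) && spW.all (fun x => Nat.blt x 12) &&
    Nat.beq (spW.length % 2) 0) = true := by decide +kernel

/-- The last relator in the wreath product. -/
def Ext.za : Wr Γ := prodw X.L spW

/-- Its image under the exchange. -/
def Ext.zb : Wr Γ := ⟨X.za.q, X.za.p, false⟩

theorem Ext.za_props : X.za.o = false ∧ X.down X.za.p = 1 ∧ X.down X.za.q = 1 := by
  have h := spW_facts
  simp only [Bool.and_eq_true, decide_eq_true_eq, List.all_eq_true, Nat.blt_eq, Nat.beq_eq] at h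
  obtain ⟨h1, h2⟩ := X.down_word spW h.1.2
  have ho : X.za.o = false := by rw [Ext.za, X.L_odd, h.2]; rfl
  have h3 : prodw lt spW = 1 := Fi24.setup.prod_mem _ h.1.1
  rw [Ext.za] at ho ⊢
  rw [ho, h3] at h1 h2
  simp only [cond_false, one_mul, mul_one, lt_sq] at h1 h2
  exact ⟨ho, h1, h2⟩

/-- Elements with central coordinates over the identity. -/
def Ext.Zs : Subgroup (Wr Γ) where
  carrier := {a | a.o = false ∧ X.down a.p = 1 ∧ X.down a.q = 1}
  one_mem' := by simp [Wr.one_def]
  mul_mem' := by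
    rintro ⟨p, q, o⟩ ⟨p', q', o'⟩ ⟨rfl, h1, h2⟩ ⟨rfl, h3, h4⟩
    simp_all [Wr.mul_false]
  inv_mem' := by
    rintro ⟨p, q, o⟩ ⟨rfl, h1, h2⟩
    simp_all [Wr.inv_false]

theorem Ext.za_mem : X.za ∈ X.Zs := X.za_props

theorem Ext.zb_mem : X.zb ∈ X.Zs := ⟨rfl, X.za_props.2.2, X.za_props.2.1⟩

theorem Ext.za_eq : X.za = ⟨X.za.p, X.za.q, false⟩ := Wr.ext rfl rfl X.za_props.1

/-- Elements with equal coordinates in the canonical lift of the centraliser of `l`. -/
def Ext.Hs : Subgroup (Wr Γ) where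
  carrier := {a | a.p = a.q ∧ ∃ u, Ev 11 u ∧ a.p = X.sec 11 u}
  one_mem' := ⟨rfl, 1, Ev.one 11, (X.sec_one (by norm_num)).symm⟩
  mul_mem' := by
    rintro ⟨p, q, o⟩ ⟨p', q', o'⟩ ⟨h1, u, hu, hp⟩ ⟨h3, v, hv, hp'⟩
    dsimp only at h1 h3 hp hp'
    subst h1 h3 hp hp'
    have e := X.sec_mul (show 11 < 12 by norm_num) hu hv
    cases o
    · exact ⟨rfl, u * v, hu.mul hv, e.symm⟩
    · exact ⟨rfl, u * v, hu.mul hv, e.symm⟩
  inv_mem' := by
    rintro ⟨p, q, o⟩ ⟨h1, u, hu, hp⟩
    dsimp only at h1 hp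
    subst h1 hp
    have e := X.sec_inv (show 11 < 12 by norm_num) hu
    cases o
    · exact ⟨rfl, u⁻¹, hu.inv, e.symm⟩
    · exact ⟨rfl, u⁻¹, hu.inv, e.symm⟩

theorem Ext.L_mem_Hs {x : ℕ} (hx : x ∈ [0, 1, 2, 3, 4, 5, 6, 7, 8, 9, 11]) : X.L x ∈ X.Hs := by
  rcases eq_or_ne x 11 with rfl | hne
  · refine ⟨?_, 1, Ev.one 11, ?_⟩ <;> simp [Ext.L, X.y_last, X.sec_one (show 11 < 12 by norm_num)]
  -- the lift of `a l` is the same in the centralisers of `j` and `l`
  have hu : ((0 :: Fi24P.uWord).all (fun a => (goodL 9).contains a && (goodL 11).contains a) &&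
      Nat.beq ((0 :: Fi24P.uWord).length % 2) 0) = true := by decide +kernel
  simp only [Bool.and_eq_true, List.all_eq_true, List.contains_eq_mem, decide_eq_true_eq, Nat.beq_eq] at hu
  have w9 := (X.word_good (t := 9) (by norm_num) (by decide) (by decide +kernel) (0 :: Fi24P.uWord) hu.2
    fun a ha => X.good_all 9 (by simp) a (hu.1 a ha).1).2.2
  have w11 := (X.word_good (t := 11) (by norm_num) (by decide) (by decide +kernel) (0 :: Fi24P.uWord) hu.2
    fun a ha => X.good_all 11 (by simp) a (hu.1 a ha).2).2.2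
  have hal : prodw lt (0 :: Fi24P.uWord) = lt 0 * lt 11 := by rw [prodw_cons, Fi24P.uWord_eq]
  have e := congrArg Wr.p (w9.symm.trans w11)
  rw [hal] at e
  have h0 : X.y 0 = X.sec 11 (lt 0 * lt 11) := by
    have g := (X.good_all 9 (by simp) 0 (show 0 ∈ [11, 10, 0, 1, 2, 3, 4, 5, 7, 8] by simp)).2.2
    rw [show base 9 = 11 from rfl, X.y_last, inv_one, mul_one] at g
    exact g.trans e
  have hxL : x ∈ goodL 11 := by
    simp only [List.mem_cons, List.not_mem_nil, or_false] at hx
    show x ∈ [0, 1, 2, 3, 4, 5, 6, 9, 7, 8]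
    simp only [List.mem_cons, List.not_mem_nil, or_false]
    omega
  obtain ⟨hx12, hxc, g⟩ := X.good_all 11 (by simp) x hxL
  have c0 : comB 0 11 = true := by decide +kernel
  have e0 := Ev.pair (t := 11) (show 0 < 12 by norm_num) (show 11 < 12 by norm_num) c0 (by decide +kernel)
  have e1 := Ev.pair (t := 11) hx12 (show 0 < 12 by norm_num) hxc c0
  have ex := Ev.pair (t := 11) hx12 (show 11 < 12 by norm_num) hxc (by decide +kernel)
  have hy : X.y x = X.sec 11 (lt x * lt 11) := by
    have h := mul_inv_eq_iff_eq_mul.1 g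
    rw [show base 11 = 0 from rfl] at h
    rw [h, h0, ← X.sec_mul (by norm_num) e1 e0]
    congr 1
    rw [mul_assoc, ← mul_assoc (lt 0) (lt 0), lt_sq, one_mul]
  refine ⟨?_, _, ex, hy⟩
  show X.y x = (X.y x)⁻¹
  rw [hy, ← X.sec_inv (by norm_num) ex, mul_inv_rev, lt_inv, lt_inv, comB_spec hxc]

theorem Ext.word_rel {w : List ℕ} (h : goodFor w = true) (hw : prodw Fi24.setup.g w = 1) :
    prodw X.L w = 1 := X.word_one h hw

theorem base_good : ((List.range 68).all fun b => goodFor (Fi24H.baseW.getD b [])) = true := by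
  decide +kernel

theorem base_one {b : ℕ} (hb : b < 68) : prodw Fi24.setup.g (Fi24H.baseW.getD b []) = 1 := by
  have hlen : Fi24H.baseW.length = 69 := by decide +kernel
  have hb' : b < Fi24H.baseW.length := by omega
  rw [List.getD_eq_getElem _ _ hb']
  have h2 := List.all_eq_true.mp Fi24H.baseW_src _ (List.getElem_mem hb')
  rw [Bool.or_eq_true, decide_eq_true_eq, decide_eq_true_eq] at h2
  rcases h2 with h2 | h2
  · exact Fi24.setup.prod_mem _ h2
  · rw [h2]
    exact Fi24E7.longWord_one Fi24H.fix_all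

theorem rot_range : ((List.range 274).all fun r =>
    (fun s : ℕ × ℕ => Nat.ble s.1 68 && Nat.ble s.2 (Fi24H.baseW.getD s.1 []).length)
      (Fi24H.rotSrc.getD r (0, 0))) = true := by decide +kernel

theorem Ext.conj_za (g : Wr Γ) : g * X.za = (bif g.o then X.zb else X.za) * g := by
  obtain ⟨-, h1, h2⟩ := X.za_props
  rw [X.za_eq, Ext.zb]
  obtain ⟨p, q, o⟩ := g
  cases o <;> refine Wr.ext ?_ ?_ rfl <;> simp [Wr.mul_false, Wr.mul_true, X.central' h1, X.central' h2]

theorem Ext.conj_zb (g : Wr Γ) : g * X.zb = (bif g.o then X.za else X.zb) * g := by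
  obtain ⟨-, h1, h2⟩ := X.za_props
  rw [X.za_eq, Ext.zb]
  obtain ⟨p, q, o⟩ := g
  cases o <;> refine Wr.ext ?_ ?_ rfl <;> simp [Wr.mul_false, Wr.mul_true, X.central' h1, X.central' h2]

/-- The lifts form a setting for the certificate. -/
def Ext.setting : Setting cert (Wr Γ) where
  X := X.L
  H := X.Hs
  za := X.za
  zb := X.zb
  comm := by
    show X.za * X.zb = X.zb * X.za
    rw [X.conj_zb, X.za_props.1]
    rfl
  odd a := a.o
  odd_mul := Wr.mul_o
  odd_X _ _ := rfl
  odd_za := X.za_props.1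
  odd_zb := rfl
  conj_za := X.conj_za
  conj_zb := X.conj_zb
  sq x _ := X.L_sq x
  sub_mem _ hx := X.L_mem_Hs hx
  inter t h := by
    obtain ⟨ho, h1, h2⟩ := mul_mem (zpow_mem X.za_mem t.1) (zpow_mem X.zb_mem t.2)
    obtain ⟨he, u, hu, hp⟩ := h
    have hu1 : u = 1 := by rw [← X.sec_spec (show 11 < 12 by norm_num) hu, ← hp, h1]
    rw [hu1, X.sec_one (by norm_num)] at hp
    exact Wr.ext hp (he.symm.trans hp) ho
  rel r hr := by
    have hr' : r < 274 := hr
    show prodw X.L (Fi24H.wd r) = X.za ^ (relVal r).1 * X.zb ^ (relVal r).2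
    have hw : Fi24H.wd r = (Fi24H.baseW.getD (Fi24H.rotSrc.getD r (0, 0)).1 []).rotate
        (Fi24H.rotSrc.getD r (0, 0)).2 :=
      of_decide_eq_true (List.all_eq_true.mp Fi24H.rot_eq r (List.mem_range.mpr hr'))
    have hrng := List.all_eq_true.mp rot_range r (List.mem_range.mpr hr')
    unfold relVal spiderPos
    rw [hw]
    generalize Fi24H.rotSrc.getD r (0, 0) = s at hrng ⊢
    obtain ⟨b, s⟩ := s
    simp only [Bool.and_eq_true, Nat.ble_eq] at hrng ⊢
    set w := Fi24H.baseW.getD b [] with hwb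
    rw [List.rotate_eq_drop_append_take hrng.2, prodw_append]
    set A := prodw X.L (w.take s) with hA
    set B := prodw X.L (w.drop s) with hB
    have hAB : A * B = prodw X.L w := by rw [hA, hB, ← prodw_append, List.take_append_drop]
    have hBA : B * A = A⁻¹ * prodw X.L w * A := by rw [← hAB]; group
    rw [hBA]
    rcases Nat.lt_or_eq_of_le hrng.1 with hlt | rfl
    · rw [show Nat.beq b 68 = false by
        rw [Bool.eq_false_iff]; intro h; have := Nat.eq_of_beq_eq_true h; omega,
        X.word_one (List.all_eq_true.mp base_good b (List.mem_range.mpr hlt)) (base_one hlt)]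
      simp
    · rw [show prodw X.L w = X.za from rfl, X.conj_za A⁻¹, inv_mul_cancel_right,
        show (A⁻¹ : Wr Γ).o = Nat.beq (s % 2) 1 by
          have hAo : A.o = Nat.beq (s % 2) 1 := by rw [hA, X.L_odd, List.length_take, Nat.min_eq_left hrng.2]
          rw [← hAo]
          have := Wr.mul_o A A⁻¹
          rw [mul_inv_cancel] at this
          revert this
          cases A.o <;> cases (A⁻¹).o <;> simp [Wr.one_def]]
      rw [show Nat.beq 68 68 = true from rfl]
      cases Nat.beq (s % 2) 1 <;> simp [tw]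

/-- The values of all relators of the presented group. -/
theorem words_cases : Fi24.words.all (fun w => goodFor w || decide (w = spW)) = true := by decide +kernel

theorem exists_word (g : G) : ∃ w : List ℕ, (∀ x ∈ w, x < 12) ∧ prodw lt w = g := by
  have hg : g ∈ Subgroup.closure (Fi24.setup.g '' {x | x < 12}) := Fi24.closure_g ▸ Subgroup.mem_top g
  induction hg using Subgroup.closure_induction with
  | mem y hy =>
    obtain ⟨x, hx, rfl⟩ := hy
    exact ⟨[x], by simpa using hx, by simp [prodw]⟩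
  | one => exact ⟨[], by simp, rfl⟩
  | mul a b _ _ iha ihb =>
    obtain ⟨v, hv, rfl⟩ := iha
    obtain ⟨w, hw, rfl⟩ := ihb
    exact ⟨v ++ w, fun x hx => (List.mem_append.1 hx).elim (hv x) (hw x), prodw_append _ _ _⟩
  | inv a _ iha =>
    obtain ⟨v, hv, rfl⟩ := iha
    refine ⟨v.reverse, fun x hx => hv x (List.mem_reverse.1 hx), ?_⟩
    have h := prodw_rev_iv (g := Fi24.setup.g) 12 id (fun x _ _ => (lt_inv x).symm) v
      (fun y hy => ⟨hv y hy, hv y hy⟩)
    simpa using h

/-- The kernel of a stem extension is generated by one coordinate of the last relator. -/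
theorem Ext.ker_le [Finite Γ] (hstem : X.σ.ker ≤ commutator Γ) :
    X.za.p ^ 3 = 1 ∧ X.σ.ker ≤ Subgroup.zpowers X.za.p ∧ X.za.p ∈ X.σ.ker := by
  obtain ⟨hz3, hzz⟩ := offsets_spec X.setting
  change X.za ^ 3 = 1 at hz3
  change X.za * X.zb = 1 at hzz
  have hp3 : X.za.p ^ 3 = 1 := by
    have h := congrArg Wr.p hz3
    rw [X.za_eq] at h
    simpa [pow_succ, Wr.mul_false, Wr.one_def] using h
  have hpq : X.za.p * X.za.q = 1 := by
    have h := congrArg Wr.p hzz
    rw [X.za_eq] at h
    simpa [Ext.zb, Wr.mul_false, Wr.one_def] using h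
  obtain ⟨hzo, hzp, hzq⟩ := X.za_props
  have hker : X.za.p ∈ X.σ.ker := MonoidHom.mem_ker.2 (Subtype.ext hzp)
  refine ⟨hp3, fun γ hγ => ?_, hker⟩
  set Z0 := Subgroup.zpowers X.za.p
  haveI : Z0.Normal := by
    refine ⟨fun a ha g => ?_⟩
    obtain ⟨m, rfl⟩ := Subgroup.mem_zpowers_iff.1 ha
    have h1 : g * X.za.p ^ m = X.za.p ^ m * g :=
      X.central' (by rw [map_zpow, hzp, one_zpow]) g
    rw [h1, mul_inv_cancel_right]
    exact ha
  let π := QuotientGroup.mk' Z0
  have hπp : π X.za.p = 1 := (QuotientGroup.eq_one_iff _).2 (Subgroup.mem_zpowers _)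
  have hπq : π X.za.q = 1 := by
    have h := congrArg π hpq
    rwa [map_mul, map_one, hπp, one_mul] at h
  have hπz : Wr.map π X.za = 1 := Wr.ext hπp hπq hzo
  obtain ⟨χ, hχ⟩ := Fi24.setup.exists_hom (fun x => Wr.map π (X.L x))
    (fun x _ => by rw [← map_mul, X.L_sq, map_one]) (fun w hw => by
      have e : prodw (fun x => Wr.map π (X.L x)) w = Wr.map π (prodw X.L w) := by
        simp [prodw, map_list_prod, List.map_map, Function.comp_def]
      rw [e]
      have h := List.all_eq_true.mp words_cases w hw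
      rw [Bool.or_eq_true, decide_eq_true_eq] at h
      rcases h with h | rfl
      · rw [X.word_one h (Fi24.setup.prod_mem _ hw), map_one]
      · exact hπz)
  have hZ0 : Z0 ≤ X.σ.ker := (Subgroup.zpowers_le).2 hker
  let σb : Γ ⧸ Z0 →* Cfsg.Spor.Fi24' := QuotientGroup.lift Z0 X.σ hZ0
  have heven : ∀ u ∈ commutator G, (χ u).o = false := by
    intro u hu
    have h := Abelianization.commutator_subset_ker (Wr.sign.comp χ) hu
    rw [MonoidHom.mem_ker] at h
    revert h
    show (bif (χ u).o then (-1 : ℤˣ) else 1) = 1 → _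
    cases (χ u).o <;> simp
  let τ : Cfsg.Spor.Fi24' →* Γ ⧸ Z0 :=
    MonoidHom.mk' (fun u => (χ u.1).p) fun a b => by
      show (χ ((a.1 : G) * (b.1 : G))).p = (χ a.1).p * (χ b.1).p
      erw [map_mul]
      have ho := heven a.1 a.2
      revert ho
      generalize χ a.1 = A
      obtain ⟨p, q, o⟩ := A
      rintro rfl
      rfl
  have hτ : ∀ u, σb (τ u) = u := by
    intro u
    obtain ⟨w, hw, hwu⟩ := exists_word u.1
    have hχw : χ u.1 = Wr.map π (prodw X.L w) := by
      rw [← hwu]
      change χ (prodw Fi24.setup.g w) = _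
      rw [Fi24.setup.hom_prodw χ hχ w hw]
      simp [prodw, map_list_prod, List.map_map, Function.comp_def]
    have ho : (prodw X.L w).o = false := by
      have := heven u.1 u.2
      rwa [hχw] at this
    refine Subtype.ext ?_
    show (σb (χ u.1).p).1 = u.1
    rw [hχw]
    show X.down (prodw X.L w).p = u.1
    rw [(X.down_word w hw).1, ho, cond_false, mul_one, hwu]
  -- the defect of the section is a homomorphism into the centre
  have hcen : ∀ m, σb m = 1 → ∀ b, b * m = m * b := by
    intro m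
    induction m using QuotientGroup.induction_on with
    | H m =>
      intro hm b
      induction b using QuotientGroup.induction_on with
      | H b => rw [← QuotientGroup.mk_mul, ← QuotientGroup.mk_mul,
          Subgroup.mem_center_iff.1 (X.central (MonoidHom.mem_ker.2 hm)) b]
  let δ : Γ ⧸ Z0 →* Subgroup.center (Γ ⧸ Z0) :=
    MonoidHom.mk' (fun a => ⟨a * (τ (σb a))⁻¹, Subgroup.mem_center_iff.2
      (hcen _ (by rw [map_mul, map_inv, hτ, mul_inv_cancel]))⟩) fun a b => Subtype.ext (by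
      show a * b * (τ (σb (a * b)))⁻¹ = a * (τ (σb a))⁻¹ * (b * (τ (σb b))⁻¹)
      have hb : ∀ c, c * (b * (τ (σb b))⁻¹) = (b * (τ (σb b))⁻¹) * c :=
        hcen _ (by rw [map_mul, map_inv, hτ, mul_inv_cancel])
      rw [map_mul, map_mul, mul_inv_rev, mul_assoc a (τ (σb a))⁻¹, hb (τ (σb a))⁻¹]
      group)
  have hcm : (π γ) ∈ commutator (Γ ⧸ Z0) := by
    have h := Subgroup.mem_map_of_mem π (hstem hγ)
    rw [commutator_def, Subgroup.map_commutator] at h
    exact Subgroup.commutator_mono le_top le_top h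
  haveI : IsMulCommutative (Subgroup.center (Γ ⧸ Z0)) := inferInstance
  open scoped IsMulCommutative in
  have hδ := Abelianization.commutator_subset_ker δ hcm
  have h1 : π γ * (τ (σb (π γ)))⁻¹ = 1 := congrArg Subtype.val (MonoidHom.mem_ker.1 hδ)
  rw [show σb (π γ) = 1 from MonoidHom.mem_ker.1 hγ, map_one, inv_one, mul_one] at h1
  exact (QuotientGroup.eq_one_iff _).1 h1

/-- The kernel of every finite stem extension is a quotient of the group of order three. -/
theorem stem_bound (Γ : Type) [Group Γ] [Finite Γ] (σ : Γ →* Cfsg.Spor.Fi24')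
    (hσ : Cfsg.IsStemExtension σ) :
    ∃ π : Multiplicative (ZMod 3) →* σ.ker, Function.Surjective π := by
  let X : Ext Γ := ⟨σ, hσ.1, hσ.2.1⟩
  obtain ⟨h3, hle, hmem⟩ := X.ker_le hσ.2.2
  let z : σ.ker := ⟨X.za.p, hmem⟩
  have hz3 : z ^ 3 = 1 := Subtype.ext h3
  refine ⟨MonoidHom.mk' (fun a => z ^ (Multiplicative.toAdd a).val) fun a b => ?_, fun m => ?_⟩
  · show z ^ (Multiplicative.toAdd a + Multiplicative.toAdd b).val = _
    rw [ZMod.val_add, ← pow_add]
    exact (pow_eq_pow_mod _ hz3).symm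
  · obtain ⟨k, hk⟩ := Subgroup.mem_zpowers_iff.1 (hle m.2)
    refine ⟨Multiplicative.ofAdd (k : ZMod 3), Subtype.ext ?_⟩
    show X.za.p ^ ((k : ZMod 3)).val = _
    rw [← hk, ← zpow_natCast, ZMod.val_intCast]
    conv_rhs => rw [← Int.emod_add_mul_ediv k 3, zpow_add, zpow_mul,
      show X.za.p ^ (3 : ℤ) = 1 by exact_mod_cast h3, one_zpow, mul_one]
    rfl

end

end CfsgLib.Fi24Mult
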